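import Cfsg.Agent.Omega.EH3.TCL.Basic
import Cfsg.Agent.Omega.EH3.Of

section


/-!
# THEOREM 2C: the trilinear form, `NN`, `XS`, `RR` (helper465)
-/

set_option autoImplicit false

namespace Cfsg.Agent.Omega.EH3.TCL

open Module Cfsg.Agent.LargeExtra.SiegFam Cfsg.Agent.LargeExtra.SiegFam.Lin

variable {V : Type*} [AddCommGroup V] [Module (ZMod 2) V]
variable {q : V → ZMod 2} {b : LinearMap.BilinForm (ZMod 2) V} {H : Subgroup (V ≃ₗ[ZMod 2] V)} {O : Set V}
  {W : V → Submodule (ZMod 2) V} {X : V → Subgroup (V ≃ₗ[ZMod 2] V)}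

/-- transvections -/
def tv (b : LinearMap.BilinForm (ZMod 2) V) (n v : V) : V := v + b n v • n

theorem mul_app (x y : V ≃ₗ[ZMod 2] V) (v : V) : (x * y) v = x (y v) := rfl

theorem inv_app (x : V ≃ₗ[ZMod 2] V) (v : V) : x (x⁻¹ v) = v := x.apply_symm_apply v

theorem app_inv (x : V ≃ₗ[ZMod 2] V) (v : V) : x⁻¹ (x v) = v := x.symm_apply_apply v

theorem one_app (v : V) : (1 : V ≃ₗ[ZMod 2] V) v = v := rfl

namespace TFam

/-! ### calculations with Siegel maps -/

theorem sg_add_v (r a v w : V) : sg q b a r (v + w) = sg q b a r v + sg q b a r w := by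
  simp only [sg, map_add, add_smul, mul_add]
  v2

theorem sg_zero_r (F : TFam q b H O W X) (a v : V) : sg q b a 0 v = v := by
  rw [sg, F.q_zero]; simp

theorem sg_a_r (F : TFam q b H O W X) {a : V} (hq : q a = 0) (v : V) : sg q b a a v = v := by
  rw [sg, hq, zero_mul, zero_smul, add_zero]; v2

theorem sg_fix_a (F : TFam q b H O W X) {a r : V} (h : b a r = 0) : sg q b a r a = a := by
  rw [sg, F.comm r a, h, F.self]; simp

theorem b_sg (F : TFam q b H O W X) {a r : V} (h : b a r = 0) (v : V) : b a (sg q b a r v) = b a v := by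
  rw [sg, map_add, map_add, map_add, map_smul, map_smul, map_smul, F.self, h]; simp

theorem sg_sg (F : TFam q b H O W X) {a r s : V} (hr : b a r = 0) (hs : b a s = 0) (v : V) :
    sg q b a r (sg q b a s v) = sg q b a (r + s) v := by
  rw [sg, b_sg F hs]
  rw [sg, sg, F.q_add, ladd]
  simp only [map_add, map_smul, smul_eq_mul]
  rw [F.comm r a, hr, F.comm r s]
  rcases zm (b a v) with h1 | h1 <;> rw [h1]
  · simp only [mul_zero, zero_smul, add_zero, zero_mul, add_smul]; v2
  · simp only [mul_zero, one_smul, add_zero, zero_mul, add_smul, smul_add, mul_one, one_mul]; v2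

theorem sg_invol (F : TFam q b H O W X) {a r : V} (hr : b a r = 0) (v : V) :
    sg q b a r (sg q b a r v) = v := by
  rw [F.sg_sg hr hr, add_self, F.sg_zero_r]

theorem map_sg (F : TFam q b H O W X) {h : V ≃ₗ[ZMod 2] V} (hh : h ∈ H) (a r v : V) :
    h (sg q b a r v) = sg q b (h a) (h r) (h v) := by
  rw [sg, sg, map_add, map_add, map_add, map_smul, map_smul, map_smul, F.b_H hh, F.b_H hh, F.q_H h hh]

theorem sg_swap {a r : V} (ha : q a = 0) (hr : q r = 0) (v : V) :
    sg q b a r v = sg q b r a v := by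
  rw [sg, sg, ha, hr]; simp only [zero_mul, zero_smul, add_zero]; abel

/-! ### the trilinear form -/

section one

variable {a v : V} {x y z x' y' z' : V ≃ₗ[ZMod 2] V}

theorem delta_mul (x y : V ≃ₗ[ZMod 2] V) (v : V) :
    (x * y) v + v = (x v + v) + (y v + v) + (x (y v + v) + (y v + v)) := by
  rw [mul_app, map_add]; v2

/-- `s_{xy} = s_x + s_y` modulo `W` -/
theorem delta_mul_W (F : TFam q b H O W X) (ha : a ∈ O) (hx : x ∈ X a) (hy : y ∈ X a) (v : V) :
    ∃ w ∈ W a, (x * y) v + v = (x v + v) + (y v + v) + w :=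
  ⟨_, F.X_perp a ha x hx _ (F.b_delta ha hy v), delta_mul x y v⟩

theorem dd_W (F : TFam q b H O W X) (ha : a ∈ O) (hx : x ∈ X a) (hy : y ∈ X a) (v : V) :
    y (x v + v) + (x v + v) ∈ W a := F.X_perp a ha y hy _ (F.b_delta ha hx v)

theorem tri_12 (F : TFam q b H O W X) (ha : a ∈ O) (hx : x ∈ X a) (hy : y ∈ X a) (v : V) :
    tri b v x y z = tri b v y x z := by
  have h : y (x v + v) + (x v + v) = x (y v + v) + (y v + v) := by
    rw [map_add, map_add, F.X_comm a ha y hy x hx]; v2
  rw [tri, tri, h]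

theorem tri_13 (F : TFam q b H O W X) (ha : a ∈ O) (hy : y ∈ X a) (v : V) :
    tri b v x y z = tri b v z y x := by
  rw [tri, tri, F.b_adj' ha hy, F.comm]

theorem tri_23 (F : TFam q b H O W X) (ha : a ∈ O) (hx : x ∈ X a) (hy : y ∈ X a) (hz : z ∈ X a) (v : V) :
    tri b v x y z = tri b v x z y := by
  rw [F.tri_12 ha hx hy, F.tri_13 ha hx, F.tri_12 ha hz hx]

theorem tri_mul3 (F : TFam q b H O W X) (ha : a ∈ O) (hx : x ∈ X a) (hy : y ∈ X a) (hz : z ∈ X a)
    (hz' : z' ∈ X a) (v : V) : tri b v x y (z * z') = tri b v x y z + tri b v x y z' := by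
  obtain ⟨w, hw, e⟩ := F.delta_mul_W ha hz hz' v
  rw [tri, tri, tri, e, map_add, map_add, F.b_W ha (F.dd_W ha hx hy v) hw, add_zero]

theorem tri_mul1 (F : TFam q b H O W X) (ha : a ∈ O) (hx : x ∈ X a) (hx' : x' ∈ X a) (hy : y ∈ X a)
    (hz : z ∈ X a) (v : V) : tri b v (x * x') y z = tri b v x y z + tri b v x' y z := by
  rw [F.tri_13 ha hy, F.tri_mul3 ha hz hy hx hx', F.tri_13 ha hy, F.tri_13 (x := z) ha hy]

theorem tri_mul2 (F : TFam q b H O W X) (ha : a ∈ O) (hx : x ∈ X a) (hy : y ∈ X a) (hy' : y' ∈ X a)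
    (hz : z ∈ X a) (v : V) : tri b v x (y * y') z = tri b v x y z + tri b v x y' z := by
  rw [F.tri_12 ha hx ((X a).mul_mem hy hy'), F.tri_mul1 ha hy hy' hx hz, F.tri_12 ha hy hx,
    F.tri_12 ha hy' hx]

theorem tri_alt (F : TFam q b H O W X) (ha : a ∈ O) (hx : x ∈ X a) (hy : y ∈ X a) (v : V) :
    tri b v x y x = 0 := by
  rw [tri, ladd, F.self, add_zero, F.comm]
  exact F.b_fix_self ha hy (F.b_delta ha hx v)

theorem tri_alt1 (F : TFam q b H O W X) (ha : a ∈ O) (hx : x ∈ X a) (hz : z ∈ X a) (v : V) :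
    tri b v x x z = 0 := by
  rw [F.tri_23 ha hx hx hz]; exact F.tri_alt ha hx hz v

theorem tri_alt2 (F : TFam q b H O W X) (ha : a ∈ O) (hx : x ∈ X a) (hz : z ∈ X a) (v : V) :
    tri b v x z z = 0 := by
  rw [F.tri_13 ha hz]; exact F.tri_alt1 ha hz hx v

/-- the value for representatives -/
theorem tri_rep (F : TFam q b H O W X) (ha : a ∈ O) (hx : x ∈ X a) (hy : y ∈ X a) (hz : z ∈ X a)
    {v t u : V} (ht : y v + v + t ∈ W a) (hu : z v + v + u ∈ W a) :
    b (x t + t) u = tri b v y x z := by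
  have e1 : x t + t = (x (y v + v) + (y v + v)) + (x (y v + v + t) + (y v + v + t)) := by
    simp only [map_add]; v2
  have e2 : u = (z v + v) + (z v + v + u) := by v2
  have hpz : b a (z v + v) = 0 := F.b_delta ha hz v
  have h1 : ∀ w ∈ W a, b (x (y v + v) + (y v + v)) w = 0 := fun w hw =>
    F.b_W ha (F.dd_W ha hy hx v) hw
  have h2 : x (y v + v + t) + (y v + v + t) = 0 ∨ x (y v + v + t) + (y v + v + t) = a := by
    rcases F.X_W a ha x hx _ ht with h | h
    · left; rw [h]; exact add_self _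
    · right; rw [h]; v2
  rw [tri, e1, ladd]
  have hbu : b a u = 0 := by
    rw [e2, map_add, hpz, zero_add]; exact F.perp_W ha hu
  have h3 : b (x (y v + v + t) + (y v + v + t)) u = 0 := by
    rcases h2 with h | h
    · rw [h, map_zero, LinearMap.zero_apply]
    · rw [h]; exact hbu
  rw [h3, add_zero]
  conv_lhs => rw [e2]
  rw [map_add, h1 _ hu, add_zero]

theorem XS_mem (h : XS b X a x) : x ∈ X a := h.1

theorem XS_tri (F : TFam q b H O W X) (ha : a ∈ O) (hx : XS b X a x) (hy : y ∈ X a) (hz : z ∈ X a) (v : V) :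
    tri b v x y z = 0 := by
  rw [F.tri_12 ha hx.1 hy, tri]
  have hpz : b a (z v + v) = 0 := F.b_delta ha hz v
  rcases hx.2 _ (F.b_delta ha hy v) with h | h
  · rw [h, add_self, map_zero, LinearMap.zero_apply]
  · rw [h]
    have : y v + v + a + (y v + v) = a := by v2
    rw [this]; exact hpz

theorem XS_of_tri (F : TFam q b H O W X) (ha : a ∈ O) (hx : x ∈ X a) (hv : b a v = 1)
    (h : ∀ y ∈ X a, ∀ z ∈ X a, tri b v y x z = 0) : XS b X a x := by
  refine ⟨hx, fun t ht => ?_⟩
  have key : x t + t = 0 ∨ x t + t = a := by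
    apply F.eq_of_perp
    intro u hu
    obtain ⟨y, hy, hy'⟩ := F.surj a ha v hv t ht
    obtain ⟨z, hz, hz'⟩ := F.surj a ha v hv u hu
    rw [F.tri_rep ha hx hy hz hy' hz']
    exact h y hy z hz
  rcases key with h1 | h1
  · left; exact eq_of_add h1
  · right
    calc x t = x t + t + t := by v2
      _ = t + a := by rw [h1]; v2

theorem exists_tri (F : TFam q b H O W X) (ha : a ∈ O) (hx : x ∈ X a) (hv : b a v = 1) (h : ¬ XS b X a x) :
    ∃ y ∈ X a, ∃ z ∈ X a, tri b v y x z = 1 := by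
  by_contra hcon
  push Not at hcon
  apply h
  apply F.XS_of_tri ha hx hv
  intro y hy z hz
  rcases zm (tri b v y x z) with h1 | h1
  · exact h1
  · exact absurd h1 (hcon y hy z hz)

/-! ### `NN` -/

theorem NN_add (F : TFam q b H O W X) {s t : V} (hs : NN b X a s) (ht : NN b X a t) :
    NN b X a (s + t) := by
  refine ⟨by rw [map_add, hs.1, ht.1, add_zero], fun x hx => ?_⟩
  rw [map_add]
  rcases hs.2 x hx with h1 | h1 <;> rcases ht.2 x hx with h2 | h2 <;> rw [h1, h2]
  · left; rfl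
  · right; v2
  · right; v2
  · left; v2

theorem NN_W (F : TFam q b H O W X) (ha : a ∈ O) {s : V} (hs : s ∈ W a) : NN b X a s :=
  ⟨F.perp_W ha hs, fun x hx => F.X_W a ha x hx s hs⟩

theorem NN_a (F : TFam q b H O W X) (ha : a ∈ O) : NN b X a a := F.NN_W ha (F.self_W a ha)

theorem NN_orth (F : TFam q b H O W X) (ha : a ∈ O) {s : V} (hs : ∀ w ∈ W a, b s w = 0) : NN b X a s := by
  refine ⟨by rw [F.comm]; exact hs a (F.self_W a ha), fun x hx => ?_⟩
  have key : x s + s = 0 ∨ x s + s = a := by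
    apply F.eq_of_perp
    intro u hu
    rw [F.b_adj' ha hx]
    exact hs _ (F.X_perp a ha x hx u hu)
  rcases key with h1 | h1
  · left; exact eq_of_add h1
  · right
    calc x s = x s + s + s := by v2
      _ = s + a := by rw [h1]; v2

/-- `s_x ∈ NN` if and only if `x` is Siegel -/
theorem XS_of_NN (F : TFam q b H O W X) (ha : a ∈ O) (hx : x ∈ X a) (hv : b a v = 1) {s : V}
    (h : x v + v + s ∈ W a) (hs : NN b X a s) : XS b X a x := by
  apply F.XS_of_tri ha hx hv
  intro y hy z hz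
  rw [F.tri_12 ha hy hx, tri]
  have h1 : NN b X a (x v + v) := by
    have : x v + v = (x v + v + s) + s := by v2
    rw [this]; exact F.NN_add (F.NN_W ha h) hs
  have hpz : b a (z v + v) = 0 := F.b_delta ha hz v
  rcases h1.2 y hy with h2 | h2
  · rw [h2, add_self, map_zero, LinearMap.zero_apply]
  · rw [h2]
    have : x v + v + a + (x v + v) = a := by v2
    rw [this]; exact hpz

theorem NN_of_XS (F : TFam q b H O W X) (ha : a ∈ O) (hx : XS b X a x) (v : V) {s : V}
    (h : x v + v + s ∈ W a) : NN b X a s := by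
  have h1 : NN b X a (x v + v) := by
    refine ⟨F.b_delta ha hx.1 v, fun y hy => ?_⟩
    have e : y (x v + v) + (x v + v) = x (y v + v) + (y v + v) := by
      rw [map_add, map_add, F.X_comm a ha y hy x hx.1]; v2
    rcases hx.2 _ (F.b_delta ha hy v) with h2 | h2
    · left
      rw [h2, add_self] at e
      exact eq_of_add e
    · right
      rw [h2] at e
      calc y (x v + v) = (y (x v + v) + (x v + v)) + (x v + v) := by v2
        _ = x v + v + a := by rw [e]; v2
  have : s = (x v + v) + (x v + v + s) := by v2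
  rw [this]
  exact F.NN_add h1 (F.NN_W ha h)

/-! ### `XS` and `RR` -/

/-- a Siegel element is `sg a (x v + v)` -/
theorem XS_eq_sg (F : TFam q b H O W X) (ha : a ∈ O) (hx : XS b X a x) (hv : b a v = 1) (w : V) :
    x w = sg q b a (x v + v) w := by
  have hperp : ∀ w, b a w = 0 → x w = sg q b a (x v + v) w := by
    intro w hw
    rw [sg, hw, zero_smul, add_zero, mul_zero, zero_smul, add_zero, F.b_adj' ha hx.1]
    rcases hx.2 w hw with h1 | h1
    · rw [h1, add_self, map_zero, zero_smul, add_zero]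
    · have : x w + w = a := by rw [h1]; v2
      rw [this, F.comm, hv, one_smul]; exact h1
  have hv1 : x v = sg q b a (x v + v) v := by
    rw [sg, hv, one_smul, mul_one, F.q_add, F.q_H x (F.X_H ha hx.1), zadd, zero_add, ladd, F.self,
      add_zero]
    v2
  rcases zm (b a w) with h1 | h1
  · exact hperp w h1
  · have h2 : b a (w + v) = 0 := by rw [map_add, h1, hv]; decide
    have h3 := hperp _ h2
    rw [map_add, sg_add_v] at h3
    rw [← hv1] at h3
    exact add_right_cancel h3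

theorem RR_of_XS (F : TFam q b H O W X) (ha : a ∈ O) (hx : XS b X a x) (hv : b a v = 1) :
    RR q b X a (x v + v) :=
  ⟨F.b_delta ha hx.1 v, x, hx.1, F.XS_eq_sg ha hx hv⟩

theorem RR_XS (F : TFam q b H O W X) {r : V} (hx : x ∈ X a) (h : ∀ v, x v = sg q b a r v) :
    XS b X a x := by
  refine ⟨hx, fun v hv => ?_⟩
  rw [h v, sg_perp hv]
  rcases zm (b r v) with h1 | h1
  · left; rw [h1, zero_smul, add_zero]
  · right; rw [h1, one_smul]

theorem RR_a (F : TFam q b H O W X) (ha : a ∈ O) : RR q b X a a :=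
  ⟨F.self a, 1, (X a).one_mem, fun v => by rw [F.sg_a_r (F.q_self ha)]; rfl⟩

theorem RR_zero (F : TFam q b H O W X) : RR q b X a 0 :=
  ⟨map_zero _, 1, (X a).one_mem, fun v => by rw [F.sg_zero_r]; rfl⟩

theorem RR_add (F : TFam q b H O W X) {r s : V} (hr : RR q b X a r) (hs : RR q b X a s) :
    RR q b X a (r + s) := by
  obtain ⟨hr, x, hx, hx'⟩ := hr
  obtain ⟨hs, y, hy, hy'⟩ := hs
  refine ⟨by rw [map_add, hr, hs, add_zero], x * y, (X a).mul_mem hx hy, fun v => ?_⟩
  rw [mul_app, hx', hy', F.sg_sg hr hs]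

theorem RR_W (F : TFam q b H O W X) (ha : a ∈ O) {r : V} (hr : RR q b X a r) (hW : r ∈ W a) :
    r = 0 ∨ r = a := by
  obtain ⟨hr, x, hx, hx'⟩ := hr
  obtain ⟨v, hv⟩ := F.alt.exists_ne (F.zero a ha)
  have h1 := hx' v
  rw [sg_one hv] at h1
  have h2 : x v + v = b r v • a + r + q r • a := by rw [h1]; v2
  have h3 : x = 1 := by
    apply F.inj a ha x hx v hv
    rw [h2]
    exact (W a).add_mem ((W a).add_mem ((W a).smul_mem _ (F.self_W a ha)) hW)
      ((W a).smul_mem _ (F.self_W a ha))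
  rw [h3, one_app, add_self] at h2
  have h4 : r = (b r v + q r) • a := by
    apply eq_of_add
    rw [add_smul, h2]; abel
  rcases zm (b r v + q r) with h5 | h5
  · left; rw [h4, h5, zero_smul]
  · right; rw [h4, h5, one_smul]

theorem RR_NN (F : TFam q b H O W X) (ha : a ∈ O) {r : V} (hr : RR q b X a r) : NN b X a r := by
  obtain ⟨hr, x, hx, hx'⟩ := hr
  obtain ⟨v, hv⟩ := F.alt.exists_ne (F.zero a ha)
  apply F.NN_of_XS ha (F.RR_XS hx hx') v
  have h1 := hx' v
  rw [sg_one hv] at h1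
  have h2 : x v + v + r = b r v • a + q r • a := by rw [h1]; v2
  rw [h2]
  exact (W a).add_mem ((W a).smul_mem _ (F.self_W a ha)) ((W a).smul_mem _ (F.self_W a ha))

/-- `NN = RR + W` -/
theorem NN_eq (F : TFam q b H O W X) (ha : a ∈ O) {s : V} (hs : NN b X a s) :
    ∃ r, RR q b X a r ∧ s + r ∈ W a := by
  obtain ⟨v, hv⟩ := F.alt.exists_ne (F.zero a ha)
  obtain ⟨x, hx, hx'⟩ := F.surj a ha v hv s hs.1
  have h1 := F.XS_of_NN ha hx hv hx' hs
  refine ⟨x v + v, F.RR_of_XS ha h1 hv, ?_⟩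
  rw [add_comm]; exact hx'

/-! ### equivariance -/

theorem X_map' (F : TFam q b H O W X) {h : V ≃ₗ[ZMod 2] V} (hh : h ∈ H) (ha : a ∈ O) (hx : x ∈ X (h a)) :
    h⁻¹ * x * h ∈ X a := by
  have := F.X_map h⁻¹ (H.inv_mem hh) (h a) (F.stable h hh a ha) x hx
  rwa [app_inv, inv_inv] at this

theorem W_iff (F : TFam q b H O W X) {h : V ≃ₗ[ZMod 2] V} (hh : h ∈ H) (ha : a ∈ O) {v : V} :
    h v ∈ W (h a) ↔ v ∈ W a := by
  refine ⟨fun hv => ?_, F.W_map h hh a ha v⟩
  have := F.W_map h⁻¹ (H.inv_mem hh) (h a) (F.stable h hh a ha) _ hv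
  rwa [app_inv, app_inv] at this

theorem NN_map (F : TFam q b H O W X) {h : V ≃ₗ[ZMod 2] V} (hh : h ∈ H) (ha : a ∈ O) {s : V}
    (hs : NN b X a s) : NN b X (h a) (h s) := by
  refine ⟨by rw [F.b_H hh]; exact hs.1, fun x hx => ?_⟩
  have h1 := F.X_map' hh ha hx
  rcases hs.2 _ h1 with h2 | h2
  · left
    have := congrArg h h2
    rw [mul_app, mul_app, inv_app] at this
    exact this
  · right
    have := congrArg h h2
    rw [mul_app, mul_app, inv_app, map_add] at this
    exact this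

theorem XS_map (F : TFam q b H O W X) {h : V ≃ₗ[ZMod 2] V} (hh : h ∈ H) (ha : a ∈ O)
    (hx : XS b X a x) : XS b X (h a) (h * x * h⁻¹) := by
  refine ⟨F.X_map h hh a ha x hx.1, fun v hv => ?_⟩
  have h1 : b a (h⁻¹ v) = 0 := by
    rw [← F.b_H hh, inv_app]; exact hv
  rw [mul_app, mul_app]
  rcases hx.2 _ h1 with h2 | h2
  · left; rw [h2, inv_app]
  · right; rw [h2, map_add, inv_app]

theorem RR_map (F : TFam q b H O W X) {h : V ≃ₗ[ZMod 2] V} (hh : h ∈ H) (ha : a ∈ O) {r : V}
    (hr : RR q b X a r) : RR q b X (h a) (h r) := by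
  obtain ⟨hr, x, hx, hx'⟩ := hr
  refine ⟨by rw [F.b_H hh]; exact hr, h * x * h⁻¹, F.X_map h hh a ha x hx, fun v => ?_⟩
  rw [mul_app, mul_app, hx', F.map_sg hh, inv_app]

theorem map_inv_iff {P : V → V → Prop} (hP : ∀ h ∈ H, ∀ a ∈ O, ∀ r, P a r → P (h a) (h r))
    (F : TFam q b H O W X) {h : V ≃ₗ[ZMod 2] V} (hh : h ∈ H) (ha : a ∈ O) {r : V} :
    P (h a) (h r) ↔ P a r := by
  refine ⟨fun h1 => ?_, hP h hh a ha r⟩
  have := hP h⁻¹ (H.inv_mem hh) (h a) (F.stable h hh a ha) _ h1
  rwa [app_inv, app_inv] at this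

/-- (B4) -/
theorem NN_of_sg (F : TFam q b H O W X) (ha : a ∈ O) {y : V} (hy : b a y = 0) {h : V ≃ₗ[ZMod 2] V}
    (hh : h ∈ H) (he : ∀ v, h v = sg q b a y v) : NN b X a y := by
  refine ⟨hy, fun x hx => ?_⟩
  have hha : h a = a := by rw [he, F.sg_fix_a hy]
  have h1 : h * x * h⁻¹ * x ∈ X a := by
    have := F.X_map h hh a ha x hx
    rw [hha] at this
    exact (X a).mul_mem this hx
  have hinv : ∀ v, h⁻¹ v = sg q b a y v := by
    intro v
    have : h (sg q b a y v) = v := by rw [he, F.sg_invol hy]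
    rw [← this, app_inv, this]
  have hxy : b a (x y) = 0 := by rw [F.b_fix ha hx]; exact hy
  have h2 : RR q b X a (y + x y) := by
    refine ⟨by rw [map_add, hy, hxy, add_zero], _, h1, fun v => ?_⟩
    rw [mul_app, mul_app, mul_app, hinv, he, F.map_sg (F.X_H ha hx), F.X_fix a ha x hx,
      F.X_sq a ha x hx, F.sg_sg hy hxy]
  have h3 : y + x y ∈ W a := by rw [add_comm]; exact F.X_perp a ha x hx y hy
  rcases F.RR_W ha h2 h3 with h4 | h4
  · left; exact (eq_of_add h4).symm
  · right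
    calc x y = y + x y + y := by v2
      _ = y + a := by rw [h4]; v2

end one

end TFam

end Cfsg.Agent.Omega.EH3.TCL

end

section


/-!
# THEOREM 2C: (K1), (K2) and the dichotomy (helper465)
-/

set_option autoImplicit false

namespace Cfsg.Agent.Omega.EH3.TCL

open Module Cfsg.Agent.LargeExtra.SiegFam Cfsg.Agent.LargeExtra.SiegFam.Lin

variable {V : Type*} [AddCommGroup V] [Module (ZMod 2) V]
variable {q : V → ZMod 2} {b : LinearMap.BilinForm (ZMod 2) V} {H : Subgroup (V ≃ₗ[ZMod 2] V)} {O : Set V}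
  {W : V → Submodule (ZMod 2) V} {X : V → Subgroup (V ≃ₗ[ZMod 2] V)}

namespace TFam

variable {a c v : V} {x y z : V ≃ₗ[ZMod 2] V}

/-- (B5) a subgroup of index at most two of `X a` is not Siegel -/
theorem not_index_two (F : TFam q b H O W X) (ha : a ∈ O) (hT : ∃ x ∈ X a, ¬ XS b X a x)
    (P : (V ≃ₗ[ZMod 2] V) → Prop) (h2 : ∀ x ∈ X a, ∀ y ∈ X a, P x ∨ P y ∨ P (x * y))
    (hP : ∀ x ∈ X a, P x → XS b X a x) : False := by
  obtain ⟨x, hx, hxS⟩ := hT
  obtain ⟨v, hv⟩ := F.alt.exists_ne (F.zero a ha)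
  obtain ⟨y, hy, z, hz, h1⟩ := F.exists_tri ha hx hv hxS
  rcases h2 x hx y hy with h3 | h3 | h3
  · exact hxS (hP x hx h3)
  · rw [F.XS_tri ha (hP y hy h3) hx hz] at h1
    exact zero_ne_one h1
  · have h4 := F.XS_tri ha (hP _ ((X a).mul_mem hx hy) h3) hx hz v
    rw [F.tri_mul1 ha hx hy hx hz, F.tri_alt1 ha hx hz, h1, zero_add] at h4
    exact one_ne_zero h4

/-- two independent elements in a subgroup of index at most two -/
theorem pick (F : TFam q b H O W X) (ha : a ∈ O) (hT : ∃ x ∈ X a, ¬ XS b X a x) (hv : b a v = 1)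
    (P : (V ≃ₗ[ZMod 2] V) → Prop) (h2 : ∀ x ∈ X a, ∀ y ∈ X a, P x ∨ P y ∨ P (x * y)) :
    ∃ x ∈ X a, ∃ y ∈ X a, ∃ z ∈ X a, P x ∧ P y ∧ tri b v x y z = 1 := by
  obtain ⟨x, hx, hxS⟩ := hT
  obtain ⟨y, hy, z, hz, h1⟩ := F.exists_tri ha hx hv hxS
  have key : ∃ x1 ∈ X a, ∃ x2 ∈ X a, P x1 ∧ tri b v x1 x2 z = 1 := by
    rcases h2 x hx y hy with h3 | h3 | h3
    · exact ⟨x, hx, y, hy, h3, by rw [F.tri_12 ha hx hy]; exact h1⟩
    · exact ⟨y, hy, x, hx, h3, h1⟩
    · refine ⟨x * y, (X a).mul_mem hx hy, x, hx, h3, ?_⟩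
      rw [F.tri_mul1 ha hx hy hx hz, F.tri_alt1 ha hx hz, h1, zero_add]
  obtain ⟨x1, hx1, x2, hx2, hP, h3⟩ := key
  rcases h2 x2 hx2 z hz with h4 | h4 | h4
  · exact ⟨x1, hx1, x2, hx2, z, hz, hP, h4, h3⟩
  · exact ⟨x1, hx1, z, hz, x2, hx2, hP, h4, by rw [F.tri_23 ha hx1 hz hx2]; exact h3⟩
  · refine ⟨x1, hx1, x2 * z, (X a).mul_mem hx2 hz, z, hz, hP, h4, ?_⟩
    rw [F.tri_mul2 ha hx1 hx2 hz hz, F.tri_alt2 ha hx1 hz, h3, add_zero]

/-- `NN a s` implies that the stabiliser of `s` has index at most two -/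
theorem fix_index (hs : NN b X a v) (hfa : ∀ x ∈ X a, x a = a) :
    ∀ x ∈ X a, ∀ y ∈ X a, x v = v ∨ y v = v ∨ (x * y) v = v := by
  intro x hx y hy
  rcases hs.2 x hx with h1 | h1
  · exact Or.inl h1
  · rcases hs.2 y hy with h2 | h2
    · exact Or.inr (Or.inl h2)
    · right; right
      rw [mul_app, h2, map_add, h1, hfa x hx]; v2

/-- (B7) -/
theorem eq_of_fix_W (F : TFam q b H O W X) (ha : a ∈ O) {w : V} (hw : w ∈ W a)
    (h : ∀ x ∈ X a, x w = w) : w = 0 ∨ w = a := by
  obtain ⟨v, hv⟩ := F.alt.exists_ne (F.zero a ha)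
  apply F.eq_of_perp
  intro u hu
  obtain ⟨x, hx, hx'⟩ := F.surj a ha v hv u hu
  have h1 : u = (x v + v) + (x v + v + u) := by v2
  rw [h1, map_add, F.b_W ha hw hx', add_zero, ← F.b_adj' ha hx, h x hx, add_self, map_zero,
    LinearMap.zero_apply]

/-- (TOOL) -/
theorem tool (F : TFam q b H O W X) (ha : a ∈ O) (hc : c ∈ O) (hv : RR q b X c v)
    (hav : b a v = 0) (hqv : q v = 0) {f : V ≃ₗ[ZMod 2] V} (hf : f ∈ X a) (hfv : f v = v) :
    ∃ h ∈ H, (∀ w, h w = sg q b v (f c + c) w) ∧ h a = a ∧ b v (f c + c) = 0 := by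
  obtain ⟨hcv, g, hg, hg'⟩ := hv
  have hcv' : b v c = 0 := by rw [F.comm]; exact hcv
  have hfc : b v (f c) = 0 := by
    rw [← hfv, F.b_X ha hf]; exact hcv'
  have hy : b v (f c + c) = 0 := by rw [map_add, hfc, hcv', add_zero]
  have hay : b a (f c + c) = 0 := F.b_delta ha hf c
  have hfi : ∀ w, f⁻¹ w = f w := by
    intro w
    rw [← F.X_sq a ha f hf w, app_inv, F.X_sq a ha f hf]
  have key : ∀ w, (f * g * f⁻¹ * g) w = sg q b v (f c + c) w := by
    intro w
    rw [mul_app, mul_app, mul_app, hfi, hg', hg', F.map_sg (F.X_H ha hf), F.X_sq a ha f hf, hfv,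
      sg_swap (by rw [F.q_H f (F.X_H ha hf)]; exact F.q_self hc) hqv, sg_swap (F.q_self hc) hqv,
      F.sg_sg hfc hcv']
  refine ⟨f * g * f⁻¹ * g, H.mul_mem (H.mul_mem (H.mul_mem (F.X_H ha hf) (F.X_H hc hg))
    (H.inv_mem (F.X_H ha hf))) (F.X_H hc hg), key, ?_, hy⟩
  rw [key, sg, F.comm v a, hav, F.comm _ a, hay]; simp

/-- (K1) -/
theorem K1 (F : TFam q b H O W X) (hT : ∀ a ∈ O, ∃ x ∈ X a, ¬ XS b X a x) (ha : a ∈ O) (hc : c ∈ O)
    (hac : b a c = 1) (hv : RR q b X c v) (hvW : v ∈ W a) : v = 0 := by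
  by_contra h0
  have hav : b a v = 0 := F.perp_W ha hvW
  have hva : v ≠ a := by
    intro h
    have h1 := hv.1
    rw [h, F.comm, hac] at h1
    exact one_ne_zero h1
  have hqv : q v = 0 := F.q_W a ha v hvW
  have hN : NN b X a v := F.NN_W ha hvW
  have hidx := fix_index hN (F.X_fix a ha)
  have hcv : b v c = 0 := by rw [F.comm]; exact hv.1
  by_cases hn : ∃ n, NN b X a n ∧ b v n = 1
  · obtain ⟨n, hn, hvn⟩ := hn
    apply F.not_index_two ha (hT a ha) (fun x => x v = v) hidx
    intro x hx hxv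
    obtain ⟨h, hh, he, hha, hy⟩ := F.tool ha hc hv hav hqv hx hxv
    have h1 := F.NN_map hh ha hn
    rw [hha, he, sg_one hvn] at h1
    have h2 : NN b X a (x c + c) := by
      have e : x c + c = (n + b (x c + c) n • v + (x c + c) + q (x c + c) • v) +
          (n + (b (x c + c) n • v + q (x c + c) • v)) := by v2
      rw [e]
      have hsm : ∀ t : ZMod 2, NN b X a (t • v) := by
        intro t
        exact F.NN_W ha ((W a).smul_mem t hvW)
      exact F.NN_add h1 (F.NN_add hn (F.NN_add (hsm _) (hsm _)))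
    exact F.XS_of_NN ha hx hac (by rw [add_self]; exact (W a).zero_mem) h2
  · push Not at hn
    have hn' : ∀ n, NN b X a n → b v n = 0 := by
      intro n h1
      rcases zm (b v n) with h2 | h2
      · exact h2
      · exact absurd h2 (hn n h1)
    obtain ⟨g, hg, hg'⟩ := hv.2
    have hgH := F.X_H hc hg
    have hga : g a = a + v := by
      rw [hg', sg, F.comm v a, hav, F.comm c a, hac, hqv]; simp
    have hgn : ∀ n, b v n = 0 → g n = n + b c n • v := by
      intro n h1
      rw [hg', sg, h1, hqv]; simp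
    have hgg : ∀ n, g (g n) = n := by
      intro n; rw [hg', hg', F.sg_invol hv.1]
    -- `NN (a + v) = NN a`
    have hsm : ∀ t : ZMod 2, NN b X a (t • v) := fun t => F.NN_W ha ((W a).smul_mem t hvW)
    have hO : a + v ∈ O := by rw [← hga]; exact F.stable g hgH a ha
    have hNN : ∀ n, NN b X (a + v) n → NN b X a n := by
      intro n h1
      have h2 : NN b X a (g n) := by
        have h3 := F.NN_map hgH hO h1
        rwa [← hga, hgg] at h3
      have h4 : b v n = 0 := by
        have h5 := hn' _ h2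
        have h6 : g v = v := by
          rw [hgn v (F.self v), hv.1, zero_smul, add_zero]
        rw [← h6, F.b_H hgH] at h5
        exact h5
      rw [hgn n h4] at h2
      have e : n = (n + b c n • v) + b c n • v := by v2
      rw [e]
      exact F.NN_add h2 (hsm _)
    -- `f₁`
    obtain ⟨f, hf, hfv⟩ : ∃ f ∈ X a, f v = v + a := by
      by_contra hcon
      push Not at hcon
      rcases F.eq_of_fix_W ha hvW (fun x hx => by
        rcases F.X_W a ha x hx v hvW with h1 | h1
        · exact h1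
        · exact absurd h1 (hcon x hx)) with h1 | h1
      · exact h0 h1
      · exact hva h1
    have hfH := F.X_H ha hf
    have hvO : v ∈ O := by
      have : f (a + v) = v := by
        rw [map_add, F.X_fix a ha f hf, hfv]; v2
      rw [← this]; exact F.stable f hfH _ hO
    have hNv : ∀ n, NN b X v n → NN b X a n := by
      intro n h1
      have h2 := F.NN_map hfH hvO h1
      rw [hfv, add_comm v a] at h2
      have h3 := F.NN_map hfH ha (hNN _ h2)
      rwa [F.X_sq a ha f hf, F.X_fix a ha f hf] at h3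
    apply F.not_index_two ha (hT a ha) (fun x => x v = v) hidx
    intro x hx hxv
    obtain ⟨h, hh, he, hha, hy⟩ := F.tool ha hc hv hav hqv hx hxv
    have h1 := hNv _ (F.NN_of_sg hvO hy hh he)
    exact F.XS_of_NN ha hx hac (by rw [add_self]; exact (W a).zero_mem) h1

/-- (K2) -/
theorem K2 (F : TFam q b H O W X) (hT : ∀ a ∈ O, ∃ x ∈ X a, ¬ XS b X a x) (ha : a ∈ O) (hc : c ∈ O)
    (hac : b a c = 1) (hv : RR q b X c v) (hav : b a v = 0) (hqv : q v = 0) (h0 : v ≠ 0) :
    v ∉ W a ∧ (∀ f ∈ X a, f v = v → f ≠ 1 → f c + c + v ∈ W a) ∧ ¬ NN b X a v ∧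
      ∀ r, RR q b X a r → r ≠ 0 → r ≠ a → b v r = 1 := by
  have hvW : v ∉ W a := fun h => h0 (F.K1 hT ha hc hac hv h)
  have hw : ∃ w ∈ W a, b v w = 1 := by
    by_contra hcon
    push Not at hcon
    have hcon' : ∀ w ∈ W a, b v w = 0 := by
      intro w hw
      rcases zm (b v w) with h1 | h1
      · exact h1
      · exact absurd h1 (hcon w hw)
    apply F.not_index_two ha (hT a ha) (fun x => x v = v) (fix_index (F.NN_orth ha hcon') (F.X_fix a ha))
    intro x hx hxv
    obtain ⟨h, hh, he, hha, hy⟩ := F.tool ha hc hv hav hqv hx hxv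
    apply F.XS_of_NN ha hx hac (by rw [add_self]; exact (W a).zero_mem : x c + c + (x c + c) ∈ W a)
    apply F.NN_orth ha
    intro w hw
    have h1 := F.W_map h hh a ha w hw
    rw [hha, he, sg_perp (hcon' w hw)] at h1
    rcases zm (b (x c + c) w) with h2 | h2
    · exact h2
    · exfalso
      rw [h2, one_smul] at h1
      apply hvW
      have : v = w + (w + v) := by v2
      rw [this]; exact (W a).add_mem hw h1
  obtain ⟨w, hw, hvw⟩ := hw
  have hstar : ∀ f ∈ X a, f v = v → f ≠ 1 → f c + c + v ∈ W a := by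
    intro f hf hfv hf1
    obtain ⟨h, hh, he, hha, hy⟩ := F.tool ha hc hv hav hqv hf hfv
    have h1 := F.W_map h hh a ha w hw
    rw [hha, he, sg_one hvw] at h1
    have h2 : f c + c + (b (f c + c) w + q (f c + c)) • v ∈ W a := by
      have e : f c + c + (b (f c + c) w + q (f c + c)) • v =
        (w + b (f c + c) w • v + (f c + c) + q (f c + c) • v) + w := by
        rw [add_smul]; v2
      rw [e]; exact (W a).add_mem h1 hw
    rcases zm (b (f c + c) w + q (f c + c)) with h3 | h3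
    · rw [h3, zero_smul, add_zero] at h2
      exact absurd (F.inj a ha f hf c hac h2) hf1
    · rw [h3, one_smul] at h2; exact h2
  have hNN : ¬ NN b X a v := by
    intro hN
    apply F.not_index_two ha (hT a ha) (fun x => x v = v) (fix_index hN (F.X_fix a ha))
    intro x hx hxv
    by_cases hx1 : x = 1
    · refine ⟨hx, fun w _ => ?_⟩
      left; rw [hx1]; rfl
    · exact F.XS_of_NN ha hx hac (hstar x hx hxv hx1) hN
  refine ⟨hvW, hstar, hNN, fun r hr hr0 hra => ?_⟩
  rcases zm (b v r) with h1 | h1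
  · exfalso
    obtain ⟨har, x, hx, hx'⟩ := hr
    have hxv : x v = v := by
      rw [hx', sg_fix hav (by rw [F.comm]; exact h1)]
    have h2 : x c + c + r = b r c • a + q r • a := by rw [hx', sg_one hac]; v2
    have h3 : x c + c + r ∈ W a := by
      rw [h2]
      exact (W a).add_mem ((W a).smul_mem _ (F.self_W a ha)) ((W a).smul_mem _ (F.self_W a ha))
    have hx1 : x ≠ 1 := by
      intro h
      rw [h, one_app, add_self, zero_add] at h3
      rcases F.RR_W ha ⟨har, x, hx, hx'⟩ h3 with h4 | h4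
      · exact hr0 h4
      · exact hra h4
    apply hNN
    have e : v = r + ((x c + c + r) + (x c + c + v)) := by v2
    rw [e]
    exact F.NN_add (F.RR_NN ha ⟨har, x, hx, hx'⟩) (F.NN_W ha ((W a).add_mem h3 (hstar x hx hxv hx1)))
  · exact h1

/-- `RR a` consists of `0, a, r, r + a` -/
def Four (q : V → ZMod 2) (b : LinearMap.BilinForm (ZMod 2) V) (X : V → Subgroup (V ≃ₗ[ZMod 2] V))
    (a r : V) : Prop :=
  RR q b X a r ∧ r ≠ 0 ∧ r ≠ a ∧ ∀ s, RR q b X a s → s = 0 ∨ s = a ∨ s = r ∨ s = r + a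

theorem Four.map (F : TFam q b H O W X) {h : V ≃ₗ[ZMod 2] V} (hh : h ∈ H) (ha : a ∈ O) {r : V}
    (hr : Four q b X a r) : Four q b X (h a) (h r) := by
  obtain ⟨h1, h2, h3, h4⟩ := hr
  refine ⟨F.RR_map hh ha h1, fun h5 => h2 (h.map_eq_zero_iff.1 h5), fun h5 => h3 (h.injective h5),
    fun s hs => ?_⟩
  have h5 : RR q b X a (h⁻¹ s) := by
    have := F.RR_map (H.inv_mem hh) (F.stable h hh a ha) hs
    rwa [app_inv] at this
  have h6 : ∀ t, h⁻¹ s = t → s = h t := fun t ht => by rw [← ht, inv_app]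
  rcases h4 _ h5 with h7 | h7 | h7 | h7
  · left; rw [h6 _ h7, map_zero]
  · right; left; exact h6 _ h7
  · right; right; left; exact h6 _ h7
  · right; right; right; rw [h6 _ h7, map_add]

/-- the partner of a pair -/
theorem Four.perp (F : TFam q b H O W X) (ha : a ∈ O) {r : V} (hr : Four q b X a r) (hac : b a c = 1) :
    ∃ s, Four q b X a s ∧ b c s = 0 ∧ (s = r ∨ s = r + a) := by
  rcases zm (b c r) with h1 | h1
  · exact ⟨r, hr, h1, Or.inl rfl⟩
  · obtain ⟨h2, h3, h4, h5⟩ := hr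
    refine ⟨r + a, ⟨F.RR_add h2 (F.RR_a ha), fun h => h4 (eq_of_add h), fun h => h3 ?_, ?_⟩, ?_, Or.inr rfl⟩
    · calc r = (r + a) + a := by v2
        _ = 0 := by rw [h]; v2
    · intro s hs
      rcases h5 s hs with h6 | h6 | h6 | h6
      · exact Or.inl h6
      · exact Or.inr (Or.inl h6)
      · right; right; right; rw [h6]; v2
      · right; right; left; exact h6
    · rw [map_add, h1, F.comm c a, hac]; decide

/-- the two cases: `RR a = {0, a, r, r + a}` totally singular for all `a ∈ O`; or the perpendicular part of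
`RR c` is anisotropic for all pairs -/
theorem dich (F : TFam q b H O W X) (hT : ∀ a ∈ O, ∃ x ∈ X a, ¬ XS b X a x)
    (hR : ∀ a ∈ O, ∃ r, RR q b X a r ∧ r ≠ 0 ∧ r ≠ a) :
    (∀ a ∈ O, ∃ r, Four q b X a r ∧ q r = 0 ∧ b a r = 0) ∨
    (∀ a ∈ O, ∀ c ∈ O, b a c = 1 → ∀ v, RR q b X c v → b a v = 0 → v ≠ 0 → q v = 1) := by
  by_cases hex : ∃ a ∈ O, ∃ c ∈ O, b a c = 1 ∧ ∃ v, RR q b X c v ∧ b a v = 0 ∧ v ≠ 0 ∧ q v = 0
  · left
    obtain ⟨a, ha, c, hc, hac, v, hv, hav, h0, hqv⟩ := hex
    obtain ⟨-, -, -, h4⟩ := F.K2 hT ha hc hac hv hav hqv h0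
    obtain ⟨r, hr, hr0, hra⟩ := hR a ha
    have hfour : Four q b X a r := by
      refine ⟨hr, hr0, hra, fun s hs => ?_⟩
      by_cases h5 : s = 0
      · exact Or.inl h5
      by_cases h6 : s = a
      · exact Or.inr (Or.inl h6)
      have h7 : b v (s + r) = 0 := by rw [map_add, h4 s hs h5 h6, h4 r hr hr0 hra]; decide
      right; right
      by_contra hcon
      push Not at hcon
      have h8 := h4 (s + r) (F.RR_add hs hr) (fun h => hcon.1 (eq_of_add h)) (fun h => hcon.2 (by
        calc s = (s + r) + r := by v2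
          _ = r + a := by rw [h]; v2))
      rw [h7] at h8
      exact zero_ne_one h8
    obtain ⟨h, hh, hhc⟩ := F.trans a ha c hc
    have hfc := Four.map F hh ha hfour
    rw [hhc] at hfc
    have hvc : v ≠ c := by
      intro h
      rw [h, hac] at hav
      exact one_ne_zero hav
    have hqc : q (h r) = 0 := by
      rcases hfc.2.2.2 v hv with h5 | h5 | h5 | h5
      · exact absurd h5 h0
      · exact absurd h5 hvc
      · rw [← h5]; exact hqv
      · have h6 : h r = v + c := by rw [h5]; v2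
        rw [h6, F.q_add, hqv, F.q_self hc, F.comm v c, hv.1]; decide
    intro a' ha'
    obtain ⟨k, hk, hka⟩ := F.trans c hc a' ha'
    have hfa := Four.map F hk hc hfc
    rw [hka] at hfa
    exact ⟨k (h r), hfa, by rw [F.q_H k hk]; exact hqc, hfa.1.1⟩
  · right
    intro a ha c hc hac v hv hav h0
    apply zm_ne
    intro hq
    exact hex ⟨a, ha, c, hc, hac, v, hv, hav, h0, hq⟩

end TFam

end Cfsg.Agent.Omega.EH3.TCL

end

section


/-!
# THEOREM 2C: the anisotropic case (helper465)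
-/

set_option autoImplicit false

namespace Cfsg.Agent.Omega.EH3.TCL

open Module Cfsg.Agent.LargeExtra.SiegFam Cfsg.Agent.LargeExtra.SiegFam.Lin

variable {V : Type*} [AddCommGroup V] [Module (ZMod 2) V]
variable {q : V → ZMod 2} {b : LinearMap.BilinForm (ZMod 2) V} {H : Subgroup (V ≃ₗ[ZMod 2] V)} {O : Set V}
  {W : V → Submodule (ZMod 2) V} {X : V → Subgroup (V ≃ₗ[ZMod 2] V)}

namespace TFam

variable {a c v n m : V} {x y z : V ≃ₗ[ZMod 2] V}

/-- `tri` as the third polarisation of `g x = b c (x c)` -/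
theorem tri_g (F : TFam q b H O W X) (ha : a ∈ O) (hx : x ∈ X a) (hy : y ∈ X a) (hz : z ∈ X a) (c : V) :
    tri b c x y z = b c (x c) + b c (y c) + b c (z c) + b c ((x * y) c) + b c ((x * z) c) +
      b c ((y * z) c) + b c ((x * (y * z)) c) := by
  have e1 : b (y (x c)) (z c) = b c ((x * (y * z)) c) := by
    rw [mul_app, mul_app, F.b_adj ha hy, F.b_adj ha hx]
  have e2 : b (y c) (z c) = b c ((y * z) c) := by rw [mul_app, F.b_adj ha hy]
  have e3 : b (x c) (z c) = b c ((x * z) c) := by rw [mul_app, F.b_adj ha hx]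
  have e4 : b (y (x c)) c = b c ((x * y) c) := by
    rw [mul_app, F.comm, F.X_comm a ha x hx y hy]
  have e5 : b (y c) c = b c (y c) := F.comm _ _
  have e6 : b (x c) c = b c (x c) := F.comm _ _
  rw [tri]
  simp only [map_add, LinearMap.add_apply]
  rw [e1, e2, e3, e4, e5, e6, F.self]
  abel

/-- a product of three Siegel elements -/
theorem three_sg (F : TFam q b H O W X) {c c' m : V} (hm : q m = 1)
    (hcc : b c c' = 1) (hcm : b c m = 0) (hcm' : b c' m = 0) (w : V) :
    sg q b c m (sg q b c' m (sg q b c m w)) = w + b (c' + c) w • (c' + c) + b m w • m := by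
  have h1 : b m c = 0 := by rw [F.comm]; exact hcm
  have h2 : b m c' = 0 := by rw [F.comm]; exact hcm'
  have h3 : b c' c = 1 := by rw [F.comm]; exact hcc
  have h4 := F.self m
  have h5 := F.self c
  have h6 := F.self c'
  simp only [sg, hm, map_add, map_smul, LinearMap.add_apply, h1, h2, h3, h4, h5, h6, hcc, hcm, hcm',
    smul_eq_mul, mul_zero, mul_one, add_zero, one_mul]
  rcases zm (b c w) with h7 | h7 <;> rcases zm (b c' w) with h8 | h8 <;>
    rcases zm (b m w) with h9 | h9 <;> rw [h7, h8, h9] <;>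
    simp only [zero_smul, one_smul, add_zero, zero_add, one_add] <;> v2

/-- (TN) -/
theorem tn (F : TFam q b H O W X) (ha : a ∈ O) (hc : c ∈ O) (hm : RR q b X c m)
    (ham : b a m = 0) (hqm : q m = 1) (hx : x ∈ X a) (hxm : x m = m) (hg : b c (x c) = 1)
    {w : V} (hw : w ∈ W a) : b (x c + c) w • (x c + c) + b m w • m ∈ W a := by
  obtain ⟨hcm, g, hg1, hg'⟩ := hm
  have hxi : ∀ w, x⁻¹ w = x w := by
    intro w
    rw [← F.X_sq a ha x hx w, app_inv, F.X_sq a ha x hx]
  have hcm' : b (x c) m = 0 := by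
    rw [← hxm, F.b_X ha hx]; exact hcm
  have key : ∀ w, (g * (x * g * x⁻¹) * g) w = w + b (x c + c) w • (x c + c) + b m w • m := by
    intro w
    rw [mul_app, mul_app, mul_app, mul_app, hxi, hg', hg', hg', F.map_sg (F.X_H ha hx), F.X_sq a ha x hx,
      hxm]
    exact F.three_sg hqm hg hcm hcm' w
  have hH : g * (x * g * x⁻¹) * g ∈ H := H.mul_mem (H.mul_mem (F.X_H hc hg1) (H.mul_mem
    (H.mul_mem (F.X_H ha hx) (F.X_H hc hg1)) (H.inv_mem (F.X_H ha hx)))) (F.X_H hc hg1)
  have hfa : (g * (x * g * x⁻¹) * g) a = a := by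
    rw [key, F.comm _ a, F.b_delta ha hx, F.comm m a, ham]; simp
  have h1 := F.W_map _ hH a ha w hw
  rw [hfa, key] at h1
  have e : b (x c + c) w • (x c + c) + b m w • m =
    (w + b (x c + c) w • (x c + c) + b m w • m) + w := by v2
  rw [e]
  exact (W a).add_mem h1 hw

theorem sg_one' (hn : q n = 1) (w : V) :
    sg q b a n w = w + b n w • a + b a w • n + b a w • a := by
  rw [sg, hn, one_mul]

/-- the cube of the product of two Siegel elements -/
theorem six_sg (F : TFam q b H O W X) (hn : q n = 1) (hm : q m = 1)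
    (hac : b a c = 1) (han : b a n = 0) (ham : b a m = 0) (hcn : b c n = 0) (hcm : b c m = 0)
    (hnm : b n m = 0) (w : V) :
    sg q b a n (sg q b c m (sg q b a n (sg q b c m (sg q b a n (sg q b c m w))))) =
      w + b n w • n + b m w • m := by
  have h1 : b c a = 1 := by rw [F.comm]; exact hac
  have h2 : b n a = 0 := by rw [F.comm]; exact han
  have h3 : b m a = 0 := by rw [F.comm]; exact ham
  have h4 : b n c = 0 := by rw [F.comm]; exact hcn
  have h5 : b m c = 0 := by rw [F.comm]; exact hcm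
  have h6 : b m n = 0 := by rw [F.comm]; exact hnm
  have s1 := F.self a
  have s2 := F.self c
  have s3 := F.self n
  have s4 := F.self m
  rw [sg_one' hm w]
  generalize hw1 : w + b m w • c + b c w • m + b c w • c = w1
  have a1 : b a w1 = b a w + b m w + b c w := by
    rw [← hw1]; simp only [map_add, map_smul, hac, ham, smul_eq_mul, mul_one, mul_zero, add_zero]
  have c1 : b c w1 = b c w := by
    rw [← hw1]; simp only [map_add, map_smul, s2, hcm, smul_eq_mul, mul_zero, add_zero]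
  have n1 : b n w1 = b n w := by
    rw [← hw1]; simp only [map_add, map_smul, h4, hnm, smul_eq_mul, mul_zero, add_zero]
  have m1 : b m w1 = b m w := by
    rw [← hw1]; simp only [map_add, map_smul, h5, s4, smul_eq_mul, mul_zero, add_zero]
  rw [sg_one' hn w1, a1, n1]
  generalize hw2 : w1 + b n w • a + (b a w + b m w + b c w) • n + (b a w + b m w + b c w) • a = w2
  have a2 : b a w2 = b a w + b m w + b c w := by
    rw [← hw2]; simp only [map_add, map_smul, a1, s1, han, smul_eq_mul, mul_zero, add_zero]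
  have c2 : b c w2 = b c w + b n w + (b a w + b m w + b c w) := by
    rw [← hw2]; simp only [map_add, map_smul, c1, h1, hcn, smul_eq_mul, mul_one, mul_zero, add_zero]
  have n2 : b n w2 = b n w := by
    rw [← hw2]; simp only [map_add, map_smul, n1, h2, s3, smul_eq_mul, mul_zero, add_zero]
  have m2 : b m w2 = b m w := by
    rw [← hw2]; simp only [map_add, map_smul, m1, h3, h6, smul_eq_mul, mul_zero, add_zero]
  rw [sg_one' hm w2, c2, m2]
  generalize hw3 : w2 + b m w • c + (b c w + b n w + (b a w + b m w + b c w)) • m +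
    (b c w + b n w + (b a w + b m w + b c w)) • c = w3
  have a3 : b a w3 = b a w + b m w + b c w + b m w + (b c w + b n w + (b a w + b m w + b c w)) := by
    rw [← hw3]; simp only [map_add, map_smul, a2, hac, ham, smul_eq_mul, mul_one, mul_zero, add_zero]
  have n3 : b n w3 = b n w := by
    rw [← hw3]; simp only [map_add, map_smul, n2, h4, hnm, smul_eq_mul, mul_zero, add_zero]
  have c3 : b c w3 = b c w + b n w + (b a w + b m w + b c w) := by
    rw [← hw3]; simp only [map_add, map_smul, c2, s2, hcm, smul_eq_mul, mul_zero, add_zero]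
  have m3 : b m w3 = b m w := by
    rw [← hw3]; simp only [map_add, map_smul, m2, h5, s4, smul_eq_mul, mul_zero, add_zero]
  rw [sg_one' hn w3, a3, n3]
  generalize hw4 : w3 + b n w • a +
    (b a w + b m w + b c w + b m w + (b c w + b n w + (b a w + b m w + b c w))) • n +
    (b a w + b m w + b c w + b m w + (b c w + b n w + (b a w + b m w + b c w))) • a = w4
  have a4 : b a w4 = b a w + b m w + b c w + b m w + (b c w + b n w + (b a w + b m w + b c w)) := by
    rw [← hw4]; simp only [map_add, map_smul, a3, s1, han, smul_eq_mul, mul_zero, add_zero]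
  have c4 : b c w4 = b c w + b n w + (b a w + b m w + b c w) + b n w +
      (b a w + b m w + b c w + b m w + (b c w + b n w + (b a w + b m w + b c w))) := by
    rw [← hw4]; simp only [map_add, map_smul, c3, h1, hcn, smul_eq_mul, mul_one, mul_zero, add_zero]
  have n4 : b n w4 = b n w := by
    rw [← hw4]; simp only [map_add, map_smul, n3, h2, s3, smul_eq_mul, mul_zero, add_zero]
  have m4 : b m w4 = b m w := by
    rw [← hw4]; simp only [map_add, map_smul, m3, h3, h6, smul_eq_mul, mul_zero, add_zero]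
  rw [sg_one' hm w4, c4, m4]
  generalize hw5 : w4 + b m w • c + (b c w + b n w + (b a w + b m w + b c w) + b n w +
      (b a w + b m w + b c w + b m w + (b c w + b n w + (b a w + b m w + b c w)))) • m +
    (b c w + b n w + (b a w + b m w + b c w) + b n w +
      (b a w + b m w + b c w + b m w + (b c w + b n w + (b a w + b m w + b c w)))) • c = w5
  have a5 : b a w5 = b a w4 + b m w + (b c w + b n w + (b a w + b m w + b c w) + b n w +
      (b a w + b m w + b c w + b m w + (b c w + b n w + (b a w + b m w + b c w)))) := by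
    rw [← hw5]; simp only [map_add, map_smul, hac, ham, smul_eq_mul, mul_one, mul_zero, add_zero]
  have n5 : b n w5 = b n w := by
    rw [← hw5]; simp only [map_add, map_smul, n4, h4, hnm, smul_eq_mul, mul_zero, add_zero]
  rw [sg_one' hn w5, a5, n5, a4, ← hw5, ← hw4, ← hw3, ← hw2, ← hw1]
  rcases zm (b a w) with h7 | h7 <;> rcases zm (b c w) with h8 | h8 <;>
    rcases zm (b m w) with h9 | h9 <;> rcases zm (b n w) with h10 | h10 <;> rw [h7, h8, h9, h10] <;>
    simp only [zero_smul, one_smul, add_zero, zero_add, one_add] <;> v2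

end TFam

end Cfsg.Agent.Omega.EH3.TCL

end

section


/-!
# THEOREM 2C: the anisotropic case, `|RR a / ⟨a⟩| > 2`; and (A) (helper465)
-/

set_option autoImplicit false

namespace Cfsg.Agent.Omega.EH3.TCL

open Module Cfsg.Agent.LargeExtra.SiegFam Cfsg.Agent.LargeExtra.SiegFam.Lin

variable {V : Type*} [AddCommGroup V] [Module (ZMod 2) V]
variable {q : V → ZMod 2} {b : LinearMap.BilinForm (ZMod 2) V} {H : Subgroup (V ≃ₗ[ZMod 2] V)} {O : Set V}
  {W : V → Submodule (ZMod 2) V} {X : V → Subgroup (V ≃ₗ[ZMod 2] V)}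

/-- the perpendicular parts are anisotropic -/
def Ani (q : V → ZMod 2) (b : LinearMap.BilinForm (ZMod 2) V) (O : Set V)
    (X : V → Subgroup (V ≃ₗ[ZMod 2] V)) : Prop :=
  ∀ a ∈ O, ∀ c ∈ O, b a c = 1 → ∀ v, RR q b X c v → b a v = 0 → v ≠ 0 → q v = 1

namespace TFam

variable {a c v n m : V} {x y z : V ≃ₗ[ZMod 2] V}

/-- the product of the two transvections -/
theorem cube (F : TFam q b H O W X) (ha : a ∈ O) (hc : c ∈ O) (hac : b a c = 1) (hn : RR q b X a n)
    (hcn : b c n = 0) (hqn : q n = 1) (hm : RR q b X c m) (ham : b a m = 0) (hqm : q m = 1)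
    (hnm : b n m = 0) :
    ∃ h ∈ H, (∀ w, h w = w + b n w • n + b m w • m) ∧ h a = a ∧ h c = c := by
  obtain ⟨han, g, hg, hg'⟩ := hn
  obtain ⟨hcm, k, hk, hk'⟩ := hm
  have hgH := F.X_H ha hg
  have hkH := F.X_H hc hk
  have key : ∀ w, (g * k * (g * k) * (g * k)) w = w + b n w • n + b m w • m := by
    intro w
    simp only [mul_app, hg', hk']
    exact F.six_sg hqn hqm hac han ham hcn hcm hnm w
  refine ⟨g * k * (g * k) * (g * k), H.mul_mem (H.mul_mem (H.mul_mem hgH hkH) (H.mul_mem hgH hkH))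
    (H.mul_mem hgH hkH), key, ?_, ?_⟩
  · rw [key, F.comm n a, han, F.comm m a, ham]; simp
  · rw [key, F.comm n c, hcn, F.comm m c, hcm]; simp

/-- (N4), first step -/
theorem perp_of_perp (F : TFam q b H O W X) (hN : Ani q b O X) (ha : a ∈ O) (hc : c ∈ O)
    (hac : b a c = 1) (hn : RR q b X a n) (hcn : b c n = 0) (hn0 : n ≠ 0)
    (hm : RR q b X c m) (ham : b a m = 0) (hm0 : m ≠ 0) (hnm : b n m = 0) (hne : n ≠ m) {n' : V}
    (hn' : RR q b X a n') : b m n' = 0 := by
  have hca : b c a = 1 := by rw [F.comm]; exact hac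
  have hqn : q n = 1 := hN c hc a ha hca n hn hcn hn0
  have hqm : q m = 1 := hN a ha c hc hac m hm ham hm0
  obtain ⟨h, hh, he, hha, hhc⟩ := F.cube ha hc hac hn hcn hqn hm ham hqm hnm
  rcases zm (b m n') with h1 | h1
  · exact h1
  · exfalso
    have h2 := F.RR_map hh ha hn'
    rw [hha, he, h1, one_smul] at h2
    have hsm : RR q b X a (b n n' • n) := by
      rcases zm (b n n') with h3 | h3 <;> rw [h3]
      · rw [zero_smul]; exact F.RR_zero
      · rw [one_smul]; exact hn
    have h3 : RR q b X a m := by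
      have e : m = (n' + b n n' • n + m) + (n' + b n n' • n) := by v2
      rw [e]; exact F.RR_add h2 (F.RR_add hn' hsm)
    have h4 := hN c hc a ha hca (n + m) (F.RR_add hn h3) (by rw [map_add, hcn, hm.1, add_zero])
      (fun h => hne (eq_of_add h))
    rw [F.q_add, hqn, hqm, hnm] at h4
    exact absurd h4 (by decide)

/-- a common anisotropic plane for some pair -/
theorem common (F : TFam q b H O W X) (hN : Ani q b O X) {n1 n2 m1 m2 : V} (ha : a ∈ O) (hc : c ∈ O)
    (hac : b a c = 1) (hn1 : RR q b X a n1) (hn2 : RR q b X a n2) (hc1 : b c n1 = 0) (hc2 : b c n2 = 0)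
    (h12 : b n1 n2 = 1) (hm1 : RR q b X c m1) (hm2 : RR q b X c m2) (ha1 : b a m1 = 0)
    (ha2 : b a m2 = 0) (h12' : b m1 m2 = 1) :
    ∃ a ∈ O, ∃ c ∈ O, b a c = 1 ∧ ∃ n1 n2, RR q b X a n1 ∧ RR q b X a n2 ∧ RR q b X c n1 ∧
      RR q b X c n2 ∧ b n1 n2 = 1 := by
  have hca : b c a = 1 := by rw [F.comm]; exact hac
  have hne : ∀ s t, b s t = 1 → s ≠ 0 := by
    rintro s t h1 rfl
    rw [map_zero, LinearMap.zero_apply] at h1
    exact zero_ne_one h1
  have h21 : b n2 n1 = 1 := by rw [F.comm]; exact h12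
  have h21' : b m2 m1 = 1 := by rw [F.comm]; exact h12'
  by_cases hex : ∃ n m, RR q b X a n ∧ b c n = 0 ∧ n ≠ 0 ∧ RR q b X c m ∧ b a m = 0 ∧ m ≠ 0 ∧
      b n m = 0 ∧ n ≠ m
  · obtain ⟨n, m, hn, hcn, hn0, hm, ham, hm0, hnm, hnem⟩ := hex
    have hmn : b m n = 0 := by rw [F.comm]; exact hnm
    have hP : ∀ n', RR q b X a n' → b m n' = 0 := fun n' hn' =>
      F.perp_of_perp hN ha hc hac hn hcn hn0 hm ham hm0 hnm hnem hn'
    -- `R'_a ⊥ R'_c`
    have hPP : ∀ n', RR q b X a n' → b c n' = 0 → n' ≠ 0 → ∀ m', RR q b X c m' → b n' m' = 0 := by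
      intro n' hn' hcn' hn0' m' hm'
      apply F.perp_of_perp hN hc ha hca hm ham hm0 hn' hcn' hn0' (hP n' hn') ?_ hm'
      rintro rfl
      -- `m ∈ R'_a` and `m ⊥ R'_a`
      have h1 := hP n1 hn1
      have h4 : q m = 1 := hN c hc a ha hca m hn' hcn' hn0'
      have h5 : q n1 = 1 := hN c hc a ha hca n1 hn1 hc1 (hne _ _ h12)
      have h6 : m + n1 = 0 := by
        by_contra h6
        have h7 := hN c hc a ha hca (m + n1) (F.RR_add hn' hn1) (by rw [map_add, hcn', hc1, add_zero]) h6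
        rw [F.q_add, h4, h5, h1] at h7
        exact absurd h7 (by decide)
      have h7 := hP n2 hn2
      rw [eq_of_add h6, h12] at h7
      exact one_ne_zero h7
    -- the pair `(c, c + n + a)`
    obtain ⟨han1, g, hg, hg'⟩ := hn1
    have hgH := F.X_H ha hg
    have hqn1 : q n1 = 1 := hN c hc a ha hca n1 ⟨han1, g, hg, hg'⟩ hc1 (hne _ _ h12)
    have hgc : g c = c + n1 + a := by
      rw [hg', sg_one' hqn1, F.comm n1 c, hc1, hac, zero_smul, add_zero, one_smul, one_smul]
    have hgm : ∀ m', RR q b X c m' → b a m' = 0 → g m' = m' := by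
      intro m' h1 h2
      rw [hg', sg_fix h2 (hPP n1 ⟨han1, g, hg, hg'⟩ hc1 (hne _ _ h12) m' h1)]
    have hO := F.stable g hgH c hc
    refine ⟨c, hc, g c, hO, ?_, m1, m2, hm1, hm2, ?_, ?_, h12'⟩
    · rw [hgc, map_add, map_add, F.self, hc1, hca]; decide
    · have := F.RR_map hgH hc hm1
      rwa [hgm m1 hm1 ha1] at this
    · have := F.RR_map hgH hc hm2
      rwa [hgm m2 hm2 ha2] at this
  · push Not at hex
    have hsub : ∀ m, RR q b X c m → b a m = 0 → m ≠ 0 → RR q b X a m := by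
      intro m hm ham hm0
      rcases zm (b n1 m) with h1 | h1
      · rw [← hex n1 m hn1 hc1 (hne _ _ h12) hm ham hm0 h1]; exact hn1
      rcases zm (b n2 m) with h2 | h2
      · rw [← hex n2 m hn2 hc2 (hne _ _ h21) hm ham hm0 h2]; exact hn2
      have h3 : b (n1 + n2) m = 0 := by rw [ladd, h1, h2]; decide
      have h4 : n1 + n2 ≠ 0 := by
        intro h4
        have := eq_of_add h4
        rw [this, F.self] at h12
        exact zero_ne_one h12
      rw [← hex (n1 + n2) m (F.RR_add hn1 hn2) (by rw [map_add, hc1, hc2, add_zero]) h4 hm ham hm0 h3]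
      exact F.RR_add hn1 hn2
    exact ⟨a, ha, c, hc, hac, m1, m2, hsub m1 hm1 ha1 (hne _ _ h12'), hsub m2 hm2 ha2 (hne _ _ h21'),
      hm1, hm2, h12'⟩

/-- (N4), second step -/
theorem no_common (F : TFam q b H O W X) (hT : ∀ a ∈ O, ∃ x ∈ X a, ¬ XS b X a x) (hN : Ani q b O X)
    {n1 n2 : V} (ha : a ∈ O) (hc : c ∈ O)
    (hac : b a c = 1) (hn1 : RR q b X a n1) (hn2 : RR q b X a n2) (hm1 : RR q b X c n1)
    (hm2 : RR q b X c n2) (h12 : b n1 n2 = 1) : False := by
  have hca : b c a = 1 := by rw [F.comm]; exact hac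
  have h21 : b n2 n1 = 1 := by rw [F.comm]; exact h12
  have hne : ∀ s t, b s t = 1 → s ≠ 0 := by
    rintro s t h1 rfl
    rw [map_zero, LinearMap.zero_apply] at h1
    exact zero_ne_one h1
  have hq1 : q n1 = 1 := hN c hc a ha hca n1 hn1 hm1.1 (hne _ _ h12)
  have hq2 : q n2 = 1 := hN c hc a ha hca n2 hn2 hm2.1 (hne _ _ h21)
  -- every element times a Siegel element fixes `n1`, `n2`
  obtain ⟨u1, hu1, hu1'⟩ := hn1.2
  obtain ⟨u2, hu2, hu2'⟩ := hn2.2
  have hS1 := F.RR_XS hu1 hu1'
  have hS2 := F.RR_XS hu2 hu2'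
  have v11 : u1 n1 = n1 := by rw [hu1', sg_perp hn1.1, F.self, zero_smul, add_zero]
  have v12 : u1 n2 = n2 + a := by rw [hu1', sg_perp hn2.1, h12, one_smul]
  have v21 : u2 n1 = n1 + a := by rw [hu2', sg_perp hn1.1, h21, one_smul]
  have v22 : u2 n2 = n2 := by rw [hu2', sg_perp hn2.1, F.self, zero_smul, add_zero]
  have hmove : ∀ x ∈ X a, ∃ s ∈ X a, XS b X a s ∧ (s * x) n1 = n1 ∧ (s * x) n2 = n2 := by
    intro x hx
    have e1 : ∀ u : V, u + a + a = u := fun u => by v2
    rcases (F.RR_NN ha hn1).2 x hx with h1 | h1 <;> rcases (F.RR_NN ha hn2).2 x hx with h2 | h2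
    · exact ⟨1, (X a).one_mem, ⟨(X a).one_mem, fun w _ => Or.inl rfl⟩, by rw [one_mul, h1],
        by rw [one_mul, h2]⟩
    · refine ⟨u1, hu1, hS1, by rw [mul_app, h1, v11], ?_⟩
      rw [mul_app, h2, map_add, v12, F.X_fix a ha u1 hu1]; v2
    · refine ⟨u2, hu2, hS2, ?_, by rw [mul_app, h2, v22]⟩
      rw [mul_app, h1, map_add, v21, F.X_fix a ha u2 hu2]; v2
    · refine ⟨u1 * u2, (X a).mul_mem hu1 hu2, ?_, ?_, ?_⟩
      · apply F.RR_XS (r := n1 + n2) ((X a).mul_mem hu1 hu2)
        intro w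
        rw [mul_app, hu1', hu2', F.sg_sg hn1.1 hn2.1]
      · rw [mul_app, mul_app, h1, map_add, map_add, v21, map_add, v11, F.X_fix a ha u2 hu2,
          F.X_fix a ha u1 hu1]; v2
      · rw [mul_app, mul_app, h2, map_add, map_add, v22, v12, F.X_fix a ha u2 hu2,
          F.X_fix a ha u1 hu1]; v2
  -- an element of `X_0` with `g = 1`
  obtain ⟨x, hx, hx1, hx2, hg⟩ : ∃ x ∈ X a, x n1 = n1 ∧ x n2 = n2 ∧ b c (x c) = 1 := by
    by_contra hcon
    push Not at hcon
    have h0 : ∀ x ∈ X a, x n1 = n1 → x n2 = n2 → b c (x c) = 0 := by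
      intro x hx h1 h2
      rcases zm (b c (x c)) with h3 | h3
      · exact h3
      · exact absurd h3 (hcon x hx h1 h2)
    obtain ⟨x, hx, hxS⟩ := hT a ha
    obtain ⟨y, hy, z, hz, h1⟩ := F.exists_tri ha hx hac hxS
    obtain ⟨s1, hs1, hS1, f11, f12⟩ := hmove y hy
    obtain ⟨s2, hs2, hS2, f21, f22⟩ := hmove x hx
    obtain ⟨s3, hs3, hS3, f31, f32⟩ := hmove z hz
    have m1 := (X a).mul_mem hs1 hy
    have m2 := (X a).mul_mem hs2 hx
    have m3 := (X a).mul_mem hs3 hz
    have h2 : tri b c (s1 * y) (s2 * x) (s3 * z) = 1 := by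
      rw [F.tri_mul1 ha hs1 hy m2 m3, F.XS_tri ha hS1 m2 m3, zero_add, F.tri_mul2 ha hy hs2 hx m3,
        F.tri_12 ha hy hs2, F.XS_tri ha hS2 hy m3, zero_add, F.tri_mul3 ha hy hx hs3 hz,
        F.tri_13 ha hx (x := y) (z := s3), F.XS_tri ha hS3 hx hy, zero_add, h1]
    have hfix : ∀ {s t : V ≃ₗ[ZMod 2] V} {w : V}, s w = w → t w = w → (s * t) w = w := by
      intro s t w h3 h4; rw [mul_app, h4, h3]
    rw [F.tri_g ha m1 m2 m3, h0 _ m1 f11 f12, h0 _ m2 f21 f22, h0 _ m3 f31 f32,
      h0 _ ((X a).mul_mem m1 m2) (hfix f11 f21) (hfix f12 f22),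
      h0 _ ((X a).mul_mem m1 m3) (hfix f11 f31) (hfix f12 f32),
      h0 _ ((X a).mul_mem m2 m3) (hfix f21 f31) (hfix f22 f32),
      h0 _ ((X a).mul_mem m1 ((X a).mul_mem m2 m3)) (hfix f11 (hfix f21 f31))
        (hfix f12 (hfix f22 f32))] at h2
    exact absurd h2 (by decide)
  have hx1' : x c + c ∉ W a := by
    intro h
    have h1 := F.inj a ha x hx c hac h
    rw [h1, one_app, F.self] at hg
    exact zero_ne_one hg
  have h3 : q (n1 + n2) = 1 := by rw [F.q_add, hq1, hq2, h12]; decide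
  have hperp : ∀ w ∈ W a, b (x c + c) w = 0 := by
    intro w hw
    rcases zm (b (x c + c) w) with h1 | h1
    · exact h1
    · exfalso
      have t1 := F.tn ha hc hm1 hn1.1 hq1 hx hx1 hg hw
      have t2 := F.tn ha hc hm2 hn2.1 hq2 hx hx2 hg hw
      have t3 := F.tn ha hc (F.RR_add hm1 hm2) (by rw [map_add, hn1.1, hn2.1, add_zero]) h3 hx
        (by rw [map_add, hx1, hx2]) hg hw
      rw [h1, one_smul] at t1 t2 t3
      rcases zm (b n1 w) with h4 | h4
      · rw [h4, zero_smul, add_zero] at t1; exact hx1' t1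
      rcases zm (b n2 w) with h5 | h5
      · rw [h5, zero_smul, add_zero] at t2; exact hx1' t2
      rw [ladd, h4, h5, one_add, zero_smul, add_zero] at t3
      exact hx1' t3
  have hNN := F.NN_orth ha hperp
  have hXS := F.XS_of_NN ha hx hac (by rw [add_self]; exact (W a).zero_mem) hNN
  have hRR := F.RR_of_XS ha hXS hac
  have hsg := F.XS_eq_sg ha hXS hac
  have e1 : b (x c + c) n1 = 0 := by
    have h4 := hsg n1
    rw [hx1, sg_perp hn1.1] at h4
    rcases zm (b (x c + c) n1) with h5 | h5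
    · exact h5
    · rw [h5, one_smul] at h4
      exact absurd (left_eq_add.1 h4) (F.zero a ha)
  have e2 : b (x c + c) n2 = 0 := by
    have h4 := hsg n2
    rw [hx2, sg_perp hn2.1] at h4
    rcases zm (b (x c + c) n2) with h5 | h5
    · exact h5
    · rw [h5, one_smul] at h4
      exact absurd (left_eq_add.1 h4) (F.zero a ha)
  have hcr : b c (x c + c + a) = 0 := by rw [map_add, map_add, hg, F.self, hca]; decide
  have hRR' := F.RR_add hRR (F.RR_a ha)
  have e1' : b (x c + c + a) n1 = 0 := by rw [ladd, e1, hn1.1, add_zero]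
  have e2' : b (x c + c + a) n2 = 0 := by rw [ladd, e2, hn2.1, add_zero]
  by_cases h0 : x c + c + a = 0
  · apply hx1'
    rw [eq_of_add h0]; exact F.self_W a ha
  · have h4 := hN c hc a ha hca _ hRR' hcr h0
    have h5 : x c + c + a + n1 ≠ 0 := by
      intro h5
      rw [eq_of_add h5, h12] at e2'
      exact one_ne_zero e2'
    have h6 := hN c hc a ha hca _ (F.RR_add hRR' hn1) (by rw [map_add, hcr, hm1.1, add_zero]) h5
    rw [F.q_add, h4, hq1, e1'] at h6
    exact absurd h6 (by decide)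

/-- in the anisotropic case `RR a` has order four -/
theorem four_of_ani (F : TFam q b H O W X) (hT : ∀ a ∈ O, ∃ x ∈ X a, ¬ XS b X a x)
    (hR : ∀ a ∈ O, ∃ r, RR q b X a r ∧ r ≠ 0 ∧ r ≠ a) (hN : Ani q b O X) (ha : a ∈ O) :
    ∃ r, Four q b X a r := by
  obtain ⟨r, hr, hr0, hra⟩ := hR a ha
  by_contra hcon
  push Not at hcon
  have h1 : ¬ Four q b X a r := hcon r
  rw [Four] at h1
  push Not at h1
  obtain ⟨s, hs, hs0, hsa, hsr, hsra⟩ := h1 hr hr0 hra
  obtain ⟨c, hc, hca⟩ : ∃ c ∈ O, b c a = 1 := by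
    by_contra h2
    push Not at h2
    apply F.zero a ha
    apply F.span
    intro c hc
    rcases zm (b c a) with h3 | h3
    · exact h3
    · exact absurd h3 (h2 c hc)
  have hac : b a c = 1 := by rw [F.comm]; exact hca
  -- the perpendicular part
  have key : ∃ n1 n2, RR q b X a n1 ∧ RR q b X a n2 ∧ b c n1 = 0 ∧ b c n2 = 0 ∧ b n1 n2 = 1 := by
    have h2 : ∀ t, RR q b X a t → RR q b X a (t + b c t • a) ∧ b c (t + b c t • a) = 0 := by
      intro t ht
      rcases zm (b c t) with h3 | h3 <;> rw [h3]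
      · rw [zero_smul, add_zero]; exact ⟨ht, h3⟩
      · rw [one_smul, map_add, h3, hca]
        exact ⟨F.RR_add ht (F.RR_a ha), by decide⟩
    obtain ⟨k1, k2⟩ := h2 r hr
    obtain ⟨k3, k4⟩ := h2 s hs
    refine ⟨_, _, k1, k3, k2, k4, ?_⟩
    have hz : ∀ t : ZMod 2, t • a = 0 ∨ t • a = a := by
      intro t
      rcases zm t with rfl | rfl
      · left; rw [zero_smul]
      · right; rw [one_smul]
    have n1 : r + b c r • a ≠ 0 := by
      intro h
      rcases hz (b c r) with h3 | h3 <;> rw [h3] at h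
      · rw [add_zero] at h; exact hr0 h
      · exact hra (eq_of_add h)
    have n2 : s + b c s • a ≠ 0 := by
      intro h
      rcases hz (b c s) with h3 | h3 <;> rw [h3] at h
      · rw [add_zero] at h; exact hs0 h
      · exact hsa (eq_of_add h)
    have n3 : (r + b c r • a) + (s + b c s • a) ≠ 0 := by
      intro h
      have h4 : s = r + (b c r • a + b c s • a) := by
        apply eq_of_add
        calc s + (r + (b c r • a + b c s • a)) = (r + b c r • a) + (s + b c s • a) := by abel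
          _ = 0 := h
      rcases hz (b c r) with h5 | h5 <;> rcases hz (b c s) with h6 | h6 <;> rw [h5, h6] at h4
      · rw [add_zero, add_zero] at h4; exact hsr h4
      · rw [zero_add] at h4; exact hsra h4
      · rw [add_zero] at h4; exact hsra h4
      · rw [add_self, add_zero] at h4; exact hsr h4
    have q1 := hN c hc a ha hca _ k1 k2 n1
    have q2 := hN c hc a ha hca _ k3 k4 n2
    have q3 := hN c hc a ha hca _ (F.RR_add k1 k3) (by rw [map_add, k2, k4, add_zero]) n3
    rw [F.q_add, q1, q2] at q3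
    rcases zm (b (r + b c r • a) (s + b c s • a)) with h4 | h4
    · rw [h4] at q3; exact absurd q3 (by decide)
    · exact h4
  obtain ⟨n1, n2, hn1, hn2, hc1, hc2, h12⟩ := key
  obtain ⟨h, hh, hhc⟩ := F.trans a ha c hc
  have r1 := F.RR_map hh ha hn1
  have r2 := F.RR_map hh ha hn2
  have r12 : b (h n1) (h n2) = 1 := by rw [F.b_H hh]; exact h12
  rw [hhc] at r1 r2
  have h2 : ∀ t, RR q b X c t → RR q b X c (t + b a t • c) ∧ b a (t + b a t • c) = 0 := by
    intro t ht
    rcases zm (b a t) with h3 | h3 <;> rw [h3]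
    · rw [zero_smul, add_zero]; exact ⟨ht, h3⟩
    · rw [one_smul, map_add, h3, hac]
      exact ⟨F.RR_add ht (F.RR_a hc), by decide⟩
  obtain ⟨k1, k2⟩ := h2 _ r1
  obtain ⟨k3, k4⟩ := h2 _ r2
  have k5 : b (h n1 + b a (h n1) • c) (h n2 + b a (h n2) • c) = 1 := by
    rw [ladd, map_add, map_add, map_smul, map_smul, map_smul, LinearMap.smul_apply, LinearMap.smul_apply,
      F.comm (h n1) c, r1.1, r2.1, F.self, r12]; simp
  obtain ⟨a', ha', c', hc', hac', m1, m2, e1, e2, e3, e4, e5⟩ :=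
    F.common hN ha hc hac hn1 hn2 hc1 hc2 h12 k1 k3 k2 k4 k5
  exact F.no_common hT hN ha' hc' hac' e1 e2 e3 e4 e5

end TFam

end Cfsg.Agent.Omega.EH3.TCL

end

section


/-!
# THEOREM 2C: the anisotropic case, `|RR a / ⟨a⟩| = 2` (helper465)

`pair_A`: `b n m = 0` is impossible.  `case_C`: `b n m = 1` for all pairs gives a common fixed vector of `X a`
and `X c`.
-/

set_option autoImplicit false

namespace Cfsg.Agent.Omega.EH3.TCL

open Module Cfsg.Agent.LargeExtra.SiegFam Cfsg.Agent.LargeExtra.SiegFam.Lin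

variable {V : Type*} [AddCommGroup V] [Module (ZMod 2) V]
variable {q : V → ZMod 2} {b : LinearMap.BilinForm (ZMod 2) V} {H : Subgroup (V ≃ₗ[ZMod 2] V)} {O : Set V}
  {W : V → Submodule (ZMod 2) V} {X : V → Subgroup (V ≃ₗ[ZMod 2] V)}

namespace TFam

variable {a c v n m : V} {x y z : V ≃ₗ[ZMod 2] V}

theorem not_mem_W (F : TFam q b H O W X) (ha : a ∈ O) (hn : q n = 1) : n ∉ W a := by
  intro h
  rw [F.q_W a ha n h] at hn
  exact zero_ne_one hn

/-- (A) -/
theorem pair_A (F : TFam q b H O W X) (hT : ∀ a ∈ O, ∃ x ∈ X a, ¬ XS b X a x)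
    (ha : a ∈ O) (hc : c ∈ O) (hac : b a c = 1) (hn : Four q b X a n) (hcn : b c n = 0) (hqn : q n = 1)
    (hm : RR q b X c m) (ham : b a m = 0) (hqm : q m = 1) (hnm : b n m = 0) : False := by
  have hca : b c a = 1 := by rw [F.comm]; exact hac
  obtain ⟨u, hu, hu'⟩ := hn.1.2
  have han := hn.1.1
  have hS := F.RR_XS hu hu'
  have hnW := F.not_mem_W ha hqn
  have hmW := F.not_mem_W ha hqm
  -- the position of `n`, `m`
  have hpos : n + m ∈ W a ∨ ((∀ w ∈ W a, b n w = 0) ∧ ∀ w ∈ W a, b m w = 0) := by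
    by_cases hnm' : n = m
    · left; rw [hnm', add_self]; exact (W a).zero_mem
    obtain ⟨h, hh, he, hha, -⟩ := F.cube ha hc hac hn.1 hcn hqn hm ham hqm hnm
    have h1 : ∀ w ∈ W a, b n w • n + b m w • m ∈ W a := by
      intro w hw
      have h2 := F.W_map h hh a ha w hw
      rw [hha, he] at h2
      have e : b n w • n + b m w • m = (w + b n w • n + b m w • m) + w := by v2
      rw [e]; exact (W a).add_mem h2 hw
    by_cases hex : ∃ w ∈ W a, b n w = 1
    · left
      obtain ⟨w, hw, h2⟩ := hex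
      have h3 := h1 w hw
      rw [h2, one_smul] at h3
      rcases zm (b m w) with h4 | h4
      · rw [h4, zero_smul, add_zero] at h3; exact absurd h3 hnW
      · rw [h4, one_smul] at h3; exact h3
    · right
      push Not at hex
      have h2 : ∀ w ∈ W a, b n w = 0 := by
        intro w hw
        rcases zm (b n w) with h3 | h3
        · exact h3
        · exact absurd h3 (hex w hw)
      refine ⟨h2, fun w hw => ?_⟩
      have h3 := h1 w hw
      rw [h2 w hw, zero_smul, zero_add] at h3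
      rcases zm (b m w) with h4 | h4
      · exact h4
      · rw [h4, one_smul] at h3; exact absurd h3 hmW
  have hmN : NN b X a m := by
    rcases hpos with h | h
    · have e : m = n + (n + m) := by v2
      rw [e]; exact F.NN_add (F.RR_NN ha hn.1) (F.NN_W ha h)
    · exact F.NN_orth ha h.2
  have hidx := fix_index hmN (F.X_fix a ha)
  have huc : u c = c + n + a := by
    rw [hu', sg_one' hqn, F.comm n c, hcn, hac, zero_smul, add_zero, one_smul, one_smul]
  -- an element with `g = 1` is `u`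
  have key : ∀ x ∈ X a, x m = m → b c (x c) = 1 → x = u := by
    intro x hx hxm hg
    have hxW : x c + c ∉ W a := by
      intro h
      have h1 := F.inj a ha x hx c hac h
      rw [h1, one_app, F.self] at hg
      exact zero_ne_one hg
    have hcase : (x c + c) + n ∈ W a → x = u := by
      intro h
      have h1 : (x * u) c + c ∈ W a := by
        obtain ⟨w, hw, e⟩ := F.delta_mul_W ha hx hu c
        rw [e, huc]
        have e2 : x c + c + (c + n + a + c) + w = (x c + c + n) + a + w := by v2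
        rw [e2]
        exact (W a).add_mem ((W a).add_mem h (F.self_W a ha)) hw
      have h2 := F.inj a ha _ ((X a).mul_mem hx hu) c hac h1
      ext w
      have h3 : ∀ w, x (u w) = w := fun w => by rw [← mul_app, h2]; rfl
      have h4 := h3 (u w)
      rw [F.X_sq a ha u hu] at h4
      exact h4
    by_cases hex : ∃ w ∈ W a, b (x c + c) w = 1
    · obtain ⟨w, hw, h1⟩ := hex
      have h2 := F.tn ha hc hm ham hqm hx hxm hg hw
      rw [h1, one_smul] at h2
      rcases zm (b m w) with h3 | h3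
      · rw [h3, zero_smul, add_zero] at h2; exact absurd h2 hxW
      · rcases hpos with h4 | h4
        · apply hcase
          rw [h3, one_smul] at h2
          have e : x c + c + n = (x c + c + m) + (n + m) := by v2
          rw [e]; exact (W a).add_mem h2 h4
        · rw [h4.2 w hw] at h3; exact absurd h3 (by decide)
    · push Not at hex
      have h2 : ∀ w ∈ W a, b (x c + c) w = 0 := by
        intro w hw
        rcases zm (b (x c + c) w) with h3 | h3
        · exact h3
        · exact absurd h3 (hex w hw)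
      have hXS := F.XS_of_NN ha hx hac (by rw [add_self]; exact (W a).zero_mem) (F.NN_orth ha h2)
      have hRR := F.RR_of_XS ha hXS hac
      rcases hn.2.2.2 _ hRR with h3 | h3 | h3 | h3
      · exfalso; apply hxW; rw [h3]; exact (W a).zero_mem
      · exfalso; apply hxW; rw [h3]; exact F.self_W a ha
      · apply hcase; rw [h3, add_self]; exact (W a).zero_mem
      · apply hcase; rw [h3]
        have e : n + a + n = a := by v2
        rw [e]; exact F.self_W a ha
  have hum : u m = m := by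
    rw [hu', sg_fix ham hnm]
  have hgu : b c (u c) = 1 := by rw [huc, map_add, map_add, F.self, hcn, hca]; decide
  obtain ⟨x, hx, y, hy, z, hz, hxm, hym, h1⟩ := F.pick ha (hT a ha) hac (fun x => x m = m) hidx
  have g0 : ∀ s ∈ X a, s m = m → s ≠ u → b c (s c) = 0 := by
    intro s hs h2 h3
    rcases zm (b c (s c)) with h4 | h4
    · exact h4
    · exact absurd (key s hs h2 h4) h3
  have t0 : ∀ s ∈ X a, ∀ t ∈ X a, tri b c u s t = 0 := fun s hs t ht => F.XS_tri ha hS hs ht c
  have tone : ∀ s t : V ≃ₗ[ZMod 2] V, tri b c 1 s t = 0 := by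
    intro s t
    rw [tri, one_app, add_self, map_zero, add_zero, map_zero, LinearMap.zero_apply]
  have hxy := (X a).mul_mem hx hy
  have txy : tri b c (x * y) y z = 1 := by
    rw [F.tri_mul1 ha hx hy hy hz, F.tri_alt1 ha hy hz, h1, add_zero]
  have nx : x ≠ u := by
    rintro rfl
    rw [t0 y hy z hz] at h1; exact zero_ne_one h1
  have h1y : tri b c y x z = 1 := by rw [F.tri_12 ha hy hx]; exact h1
  have ny : y ≠ u := by
    rintro rfl
    rw [t0 x hx z hz] at h1y; exact zero_ne_one h1y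
  have nxy : x * y ≠ u := by
    intro h
    rw [h, t0 y hy z hz] at txy; exact zero_ne_one txy
  have n1 : ∀ s t : V ≃ₗ[ZMod 2] V, tri b c s t z = 1 → u * s ≠ u := by
    intro s t h2 h3
    have h4 : s = 1 := by
      have := mul_left_cancel (h3.trans (mul_one u).symm)
      exact this
    rw [h4, tone] at h2
    exact zero_ne_one h2
  have hmul : ∀ {s t : V ≃ₗ[ZMod 2] V}, s m = m → t m = m → (s * t) m = m := by
    intro s t h3 h4; rw [mul_app, h4, h3]
  have h2 := F.tri_g ha hu hx hy c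
  rw [t0 x hx y hy, hgu, g0 x hx hxm nx, g0 y hy hym ny,
    g0 _ ((X a).mul_mem hu hx) (hmul hum hxm) (n1 x y h1),
    g0 _ ((X a).mul_mem hu hy) (hmul hum hym) (n1 y x h1y),
    g0 _ hxy (hmul hxm hym) nxy,
    g0 _ ((X a).mul_mem hu hxy) (hmul hum (hmul hxm hym)) (n1 _ y txy)] at h2
  exact absurd h2 (by decide)

/-- the fixed vectors of `X a` are transported -/
theorem fix_map (F : TFam q b H O W X) (ha : a ∈ O) {h : V ≃ₗ[ZMod 2] V} (hh : h ∈ H) {j : V}
    (hj : ∀ x ∈ X a, x j = j) : ∀ y ∈ X (h a), y (h j) = h j := by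
  intro y hy
  have h1 := hj _ (F.X_map' hh ha hy)
  rw [mul_app, mul_app] at h1
  have h2 := congrArg h h1
  rwa [inv_app] at h2

/-- (C) -/
theorem case_C (F : TFam q b H O W X) (hF : ∀ a ∈ O, ∃ r, Four q b X a r) (hN : Ani q b O X)
    (hC : ∀ a ∈ O, ∀ c ∈ O, b a c = 1 → ∀ n m, Four q b X a n → b c n = 0 → Four q b X c m → b a m = 0 →
      b n m = 1) (ha : a ∈ O) (hc : c ∈ O) (hac : b a c = 1) :
    ∃ j, j ≠ 0 ∧ (∀ x ∈ X a, x j = j) ∧ ∀ y ∈ X c, y j = j := by
  have hca : b c a = 1 := by rw [F.comm]; exact hac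
  obtain ⟨n0, hn0⟩ := hF a ha
  obtain ⟨n, hn, hcn, -⟩ := Four.perp F ha hn0 hac
  obtain ⟨m0, hm0⟩ := hF c hc
  obtain ⟨m, hm, ham, -⟩ := Four.perp F hc hm0 hca
  have hqn : q n = 1 := hN c hc a ha hca n hn.1 hcn hn.2.1
  have hqm : q m = 1 := hN a ha c hc hac m hm.1 ham hm.2.1
  have hnm : b n m = 1 := hC a ha c hc hac n m hn hcn hm ham
  have hmn : b m n = 1 := by rw [F.comm]; exact hnm
  obtain ⟨u, hu, hu'⟩ := hn.1.2
  obtain ⟨u', hv, hv'⟩ := hm.1.2
  have han := hn.1.1
  have hcm := hm.1.1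
  have huc : u c = c + n + a := by
    rw [hu', sg_one' hqn, F.comm n c, hcn, hac, zero_smul, add_zero, one_smul, one_smul]
  have hNn := F.RR_NN ha hn.1
  -- step 1
  have st1 : ∀ x ∈ X a, b c (x c) = 1 → b m (x c) = 1 := by
    intro x hx hg
    by_contra h1
    have h1 : b m (x c) = 0 := by
      rcases zm (b m (x c)) with h2 | h2
      · exact h2
      · exact absurd h2 h1
    have hxH := F.X_H ha hx
    have h2 := hC c hc (x c) (F.stable x hxH c hc) hg m (x m) hm (by rw [F.comm]; exact h1)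
      (Four.map F hxH hc hm) (by rw [← F.b_adj ha hx, F.comm]; exact h1)
    rw [F.b_fix_self ha hx ham] at h2
    exact zero_ne_one h2
  -- step 2
  have hxn : ∀ x ∈ X a, b c (x n) = b n (x c) := by
    intro x hx; rw [F.comm c, F.b_adj ha hx]
  have st2g : ∀ x ∈ X a, b c ((x * u) c) = b c (x c) + b n (x c) + 1 := by
    intro x hx
    rw [mul_app, huc, map_add, map_add, map_add, map_add, hxn x hx, F.X_fix a ha x hx, hca]
  have st2t : ∀ x ∈ X a, b m ((x * u) c) = b m (x c) + 1 := by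
    intro x hx
    rw [mul_app, huc, map_add, map_add, map_add, map_add, F.X_fix a ha x hx, F.comm m a, ham, add_zero]
    congr 1
    rcases hNn.2 x hx with h1 | h1
    · rw [h1]; exact hmn
    · rw [h1, map_add, hmn, F.comm m a, ham, add_zero]
  -- step 3
  have st3 : ∀ x ∈ X a, b c (x c) = b m (x c) * (b n (x c) + 1) := by
    intro x hx
    have h1 := st1 x hx
    have h2 := st1 (x * u) ((X a).mul_mem hx hu)
    rw [st2g x hx, st2t x hx] at h2
    revert h1 h2
    generalize b c (x c) = g, b m (x c) = t, b n (x c) = k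
    revert g t k; decide
  -- step 4
  obtain ⟨x, hx, hw⟩ := F.surj a ha c hac m ham
  generalize hwd : x c + c + m = w at hw
  have hxc : x c = c + m + w := by rw [← hwd]; v2
  have e1 : b m w = b m (x c) := by
    rw [hxc, map_add, map_add, F.comm m c, hcm, F.self]; abel
  have e2 : b c w = b c (x c) := by
    rw [hxc, map_add, map_add, hcm, F.self]; abel
  have e3 : b n w = b n (x c) + 1 := by
    rw [hxc, map_add, map_add, F.comm n c, hcn, hnm, zero_add, add_comm 1 (b n w), add_assoc, one_add,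
      add_zero]
  have e4 : b c w + b m w = 1 := by
    have h1 := F.q_H x (F.X_H ha hx) c
    rw [hxc, F.q_add, F.q_add, F.q_self hc, hqm, F.q_W a ha w hw, hcm, ladd] at h1
    revert h1
    generalize b c w = s, b m w = t
    revert s t; decide
  have e5 : b m w = 1 ∧ b c w = 0 ∧ b n w = 0 := by
    have h1 := st3 x hx
    rw [← e1, ← e2] at h1
    revert e3 e4 h1
    generalize b c w = s, b m w = t, b n w = r, b n (x c) = k
    revert s t r k; decide
  obtain ⟨f1, f2, f3⟩ := e5
  -- `x m = m + a`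
  have hxm : x m = m + a := by
    have h1 : x m + m = 0 ∨ x m + m = a := by
      apply F.eq_of_perp
      intro t ht
      obtain ⟨y, hy, hy'⟩ := F.surj a ha c hac t ht
      rw [F.tri_rep ha hx hx hy (v := c) (t := m) (by rw [hwd]; exact hw) hy']
      exact F.tri_alt1 ha hx hy c
    have h2 : b (x m + m) c = 1 := by
      rw [F.b_adj' ha hx, map_add, ← e1, f1, F.comm m c, hcm, add_zero]
    rcases h1 with h3 | h3
    · rw [h3, map_zero, LinearMap.zero_apply] at h2; exact absurd h2 (by decide)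
    · calc x m = x m + m + m := by v2
        _ = m + a := by rw [h3]; v2
  -- step 5
  have hkn : b n (x c) = 1 := by
    rw [f3] at e3
    revert e3
    generalize b n (x c) = k
    revert k; decide
  have st5 : ∀ y ∈ X a, b w (y c) = b n (y c) := by
    intro y hy
    have hxy := (X a).mul_mem hx hy
    have g1 : b c ((x * y) c) = b c (y c) + b m (y c) + b w (y c) := by
      rw [mul_app, ← F.b_adj ha hx, hxc, ladd, ladd]
    have hay : b a (y c) = 1 := by rw [F.b_fix ha hy]; exact hac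
    have g2 : b m ((x * y) c) = b m (y c) + 1 := by
      rw [mul_app, ← F.b_adj ha hx, hxm, ladd, hay]
    have g3 : b n ((x * y) c) = b n (y c) + 1 := by
      rw [mul_app, ← F.b_adj ha hx]
      have h2 : b (x n + n) c = 1 := by
        rw [F.b_adj' ha hx, map_add, hkn, F.comm n c, hcn, add_zero]
      rcases hNn.2 x hx with h3 | h3
      · rw [h3, add_self, map_zero, LinearMap.zero_apply] at h2; exact absurd h2 (by decide)
      · rw [h3, ladd, hay]
    have h1 := st3 _ hxy
    have h2 := st3 y hy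
    rw [g1, g2, g3] at h1
    revert h1 h2
    generalize b c (y c) = g, b m (y c) = t, b n (y c) = k, b w (y c) = l
    revert g t k l; decide
  -- step 6
  have hjN : NN b X a (n + w) := F.NN_add hNn (F.NN_W ha hw)
  have hj : ∀ y ∈ X a, y (n + w) = n + w := by
    intro y hy
    have h2 : b (y (n + w) + (n + w)) c = 0 := by
      rw [F.b_adj' ha hy, ladd, map_add, map_add, st5 y hy, F.comm n c, hcn, F.comm w c, f2, add_zero,
        zadd]
    rcases hjN.2 y hy with h3 | h3
    · exact h3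
    · exfalso
      rw [h3] at h2
      have e : n + w + a + (n + w) = a := by v2
      rw [e, hac] at h2
      exact one_ne_zero h2
  -- step 7
  have haw : b a w = 0 := F.perp_W ha hw
  have j1 : b n (n + w) = 0 := by rw [map_add, F.self, f3, add_zero]
  have j2 : b m (n + w) = 0 := by rw [map_add, hmn, f1]; decide
  have j3 : b c (n + w) = 0 := by rw [map_add, hcn, f2, add_zero]
  have j4 : b a (n + w) = 0 := by rw [map_add, han, haw, add_zero]
  have hj0 : n + w ≠ 0 := by
    intro h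
    rw [eq_of_add h, F.q_W a ha w hw] at hqn
    exact zero_ne_one hqn
  refine ⟨n + w, hj0, hj, ?_⟩
  -- step 8
  have uj : u (n + w) = n + w := hj u hu
  have vj : u' (n + w) = n + w := by rw [hv', sg_fix j3 j2]
  have ua : u a = a := F.X_fix a ha u hu
  have un : u n = n := by
    rw [hu', sg_one' hqn, F.self, han, zero_smul, add_zero, zero_smul, add_zero, add_zero]
  have um : u m = m + a := by
    rw [hu', sg_one' hqn, hnm, ham, one_smul, zero_smul, zero_smul, add_zero, add_zero]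
  have va : u' a = a + m + c := by
    rw [hv', sg_one' hqm, F.comm m a, ham, hca, zero_smul, add_zero, one_smul, one_smul]
  have vc : u' c = c := F.X_fix c hc u' hv
  have vm : u' m = m := by
    rw [hv', sg_one' hqm, F.self, hcm, zero_smul, add_zero, zero_smul, add_zero, add_zero]
  have vn : u' n = n + c := by
    rw [hv', sg_one' hqm, hmn, hcn, one_smul, zero_smul, zero_smul, add_zero, add_zero]
  have hmove : (u * u' * (u * u')) a = c := by
    have t1 : u (a + m + c) = a + m + n + c := by rw [map_add, map_add, ua, um, huc]; v2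
    have t2 : u' (a + m + n + c) = a + n + c := by
      rw [map_add, map_add, map_add, va, vm, vn, vc]; v2
    have t3 : u (a + n + c) = c := by rw [map_add, map_add, ua, un, huc]; v2
    rw [mul_app, mul_app, mul_app, va, t1, t2, t3]
  have hfix : (u * u' * (u * u')) (n + w) = n + w := by
    rw [mul_app, mul_app, mul_app, vj, uj, vj, uj]
  have hH : u * u' * (u * u') ∈ H :=
    H.mul_mem (H.mul_mem (F.X_H ha hu) (F.X_H hc hv)) (H.mul_mem (F.X_H ha hu) (F.X_H hc hv))
  have := F.fix_map ha hH hj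
  rw [hmove, hfix] at this
  exact this

/-- the anisotropic case gives common fixed vectors -/
theorem case_N (F : TFam q b H O W X) (hT : ∀ a ∈ O, ∃ x ∈ X a, ¬ XS b X a x)
    (hR : ∀ a ∈ O, ∃ r, RR q b X a r ∧ r ≠ 0 ∧ r ≠ a) (hN : Ani q b O X) :
    (∀ a ∈ O, ∃ r, Four q b X a r) ∧
    ∀ a ∈ O, ∀ c ∈ O, b a c = 1 → ∃ j, j ≠ 0 ∧ (∀ x ∈ X a, x j = j) ∧ ∀ y ∈ X c, y j = j := by
  have hF : ∀ a ∈ O, ∃ r, Four q b X a r := fun a ha => F.four_of_ani hT hR hN ha
  refine ⟨hF, fun a ha c hc hac => F.case_C hF hN ?_ ha hc hac⟩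
  intro a ha c hc hac n m hn hcn hm ham
  have hca : b c a = 1 := by rw [F.comm]; exact hac
  rcases zm (b n m) with h1 | h1
  · exact (F.pair_A hT ha hc hac hn hcn (hN c hc a ha hca n hn.1 hcn hn.2.1) hm.1 ham
      (hN a ha c hc hac m hm.1 ham hm.2.1) h1).elim
  · exact h1

end TFam

end Cfsg.Agent.Omega.EH3.TCL

end

section


/-!
# THEOREM 2C: the bridge from a pair (helper71)

`tFam`: for `p : Pair Q z A a` with `C_G(z)` irreducible on `V`: `TFam p.lz.q p.lz.b p.H (orb p) (fam p p.D) (xfam p)`.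
`exists_not_XS`: `¬ AllSg p` gives the hypothesis `hT` of THEOREM 2C.
`card_D`, `noSg`: the conclusion `RR ⊆ {0, a}` of THEOREM 2C gives `|D̃| = 2^w` and `NoSg p`.
-/

set_option autoImplicit false

namespace Cfsg.Agent.Omega.EH3.TCL

open Module
open Cfsg.Agent.Co2Type.Quad Cfsg.Agent.LargeExtra.Base Cfsg.Agent.LargeExtra.TwoCentral
open Cfsg.Agent.LargeExtra.Siegel Cfsg.Agent.LargeExtra.SiegelOrbit Cfsg.Agent.LargeExtra.SixInst
open Cfsg.Agent.LargeExtra.SiegFam.Inst Cfsg.Agent.LargeExtra.SiegFam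
open Cfsg.Agent.LargeExtra.Tri.Basic

variable {G : Type*} [Group G] {Q A : Subgroup G} {z a : G}

/-- transport of `X` along the orbit -/
noncomputable def xfam (p : Pair Q z A a) (c : p.lz.V) : Subgroup (p.lz.V ≃ₗ[ZMod 2] p.lz.V) := by
  classical
  exact if h : ∃ f ∈ p.H, f p.va = c then p.X.map (MulAut.conj h.choose).toMonoidHom else ⊥

theorem mem_xfam (p : Pair Q z A a) {f : p.lz.V ≃ₗ[ZMod 2] p.lz.V} (hf : f ∈ p.H)
    {g : p.lz.V ≃ₗ[ZMod 2] p.lz.V} : g ∈ xfam p (f p.va) ↔ ∃ x ∈ p.X, f * x * f⁻¹ = g := by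
  classical
  have hex : ∃ g ∈ p.H, g p.va = f p.va := ⟨f, hf, rfl⟩
  have e : xfam p (f p.va) = p.X.map (MulAut.conj hex.choose).toMonoidHom := by
    rw [xfam, dif_pos hex]
  rw [e]
  obtain ⟨h1, h2⟩ := hex.choose_spec
  generalize hex.choose = k at h1 h2
  have key : ∀ g g' : p.lz.V ≃ₗ[ZMod 2] p.lz.V, g ∈ p.H → g' ∈ p.H → g p.va = g' p.va →
      ∀ x ∈ p.X, g'⁻¹ * g * x * (g'⁻¹ * g)⁻¹ ∈ p.X := by
    intro g g' hg hg' hgg x hx
    apply p.X_normal (p.H.mul_mem (p.H.inv_mem hg') hg) _ hx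
    show g'⁻¹ (g p.va) = p.va
    rw [hgg]
    exact g'.symm_apply_apply _
  constructor
  · rintro ⟨x, hx, rfl⟩
    refine ⟨_, key k f h1 hf h2 x hx, ?_⟩
    show f * (f⁻¹ * k * x * (f⁻¹ * k)⁻¹) * f⁻¹ = k * x * k⁻¹
    group
  · rintro ⟨x, hx, rfl⟩
    refine ⟨_, key f k hf h1 h2.symm x hx, ?_⟩
    show k * (k⁻¹ * f * x * (k⁻¹ * f)⁻¹) * k⁻¹ = f * x * f⁻¹
    group

theorem mul_v (p : Pair Q z A a) (f g : p.lz.V ≃ₗ[ZMod 2] p.lz.V) (v : p.lz.V) :
    (f * g) v = f (g v) := rfl

theorem inv_v (p : Pair Q z A a) (f : p.lz.V ≃ₗ[ZMod 2] p.lz.V) (v : p.lz.V) : f⁻¹ (f v) = v :=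
  f.symm_apply_apply v

theorem v_inv (p : Pair Q z A a) (f : p.lz.V ≃ₗ[ZMod 2] p.lz.V) (v : p.lz.V) : f (f⁻¹ v) = v :=
  f.apply_symm_apply v

/-- **the instance** -/
theorem tFam [Finite G] (p : Pair Q z A a) (hirr : IrrC p.lz) :
    TFam p.lz.q p.lz.b p.H (orb p) (fam p p.D) (xfam p) where
  alt := alt p.lz
  q_add := p.lz.q_add'
  q_H := fun h hh v => H_le_O p hh v
  zero := by
    rintro _ ⟨f, hf, rfl⟩ h0
    exact p.va_ne (f.map_eq_zero_iff.1 h0)
  stable := by
    rintro h hh _ ⟨f, hf, rfl⟩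
    exact ⟨h * f, p.H.mul_mem hh hf, rfl⟩
  trans := by
    rintro _ ⟨f, hf, rfl⟩ _ ⟨g, hg, rfl⟩
    refine ⟨g * f⁻¹, p.H.mul_mem hg (p.H.inv_mem hf), ?_⟩
    rw [mul_v p, inv_v p]
  self_W := by
    rintro _ ⟨f, hf, rfl⟩
    exact (mem_fam p (inv_D p) hf).2 ⟨p.va, p.va_mem_D, rfl⟩
  q_W := by
    rintro _ ⟨f, hf, rfl⟩ v hv
    obtain ⟨s, hs, rfl⟩ := (mem_fam p (inv_D p) hf).1 hv
    rw [q_of_mem_O p.lz (H_le_O p hf)]
    exact p.q_D hs
  W_map := fun h hh c hc v hv => fam_map p (inv_D p) hh hc hv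
  X_le := by
    rintro _ ⟨f, hf, rfl⟩ g hg
    obtain ⟨x, hx, rfl⟩ := (mem_xfam p hf).1 hg
    exact p.H.mul_mem (p.H.mul_mem hf (p.X_le_H hx)) (p.H.inv_mem hf)
  X_map := by
    rintro h hh _ ⟨f, hf, rfl⟩ g hg
    obtain ⟨x, hx, rfl⟩ := (mem_xfam p hf).1 hg
    refine (mem_xfam p (p.H.mul_mem hh hf)).2 ⟨x, hx, ?_⟩
    group
  X_fix := by
    rintro _ ⟨f, hf, rfl⟩ g hg
    obtain ⟨x, hx, rfl⟩ := (mem_xfam p hf).1 hg
    rw [mul_v p, mul_v p, inv_v p, p.X_va hx]
  X_comm := by
    rintro _ ⟨f, hf, rfl⟩ g hg g' hg' v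
    obtain ⟨x, hx, rfl⟩ := (mem_xfam p hf).1 hg
    obtain ⟨y, hy, rfl⟩ := (mem_xfam p hf).1 hg'
    simp only [mul_v p, inv_v p]
    have := congrArg (fun k : p.lz.V ≃ₗ[ZMod 2] p.lz.V => k (f⁻¹ v)) (p.X_comm hx hy)
    exact congrArg f this
  X_sq := by
    rintro _ ⟨f, hf, rfl⟩ g hg v
    obtain ⟨x, hx, rfl⟩ := (mem_xfam p hf).1 hg
    simp only [mul_v p, inv_v p]
    have := congrArg (fun k : p.lz.V ≃ₗ[ZMod 2] p.lz.V => k (f⁻¹ v)) (p.X_sq hx)
    have h2 : x (x (f⁻¹ v)) = f⁻¹ v := this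
    rw [h2, v_inv p]
  X_perp := by
    rintro _ ⟨f, hf, rfl⟩ g hg v hv
    obtain ⟨x, hx, rfl⟩ := (mem_xfam p hf).1 hg
    have h1 : p.lz.b p.va (f⁻¹ v) = 0 := by
      rw [← b_of_mem_O p.lz (H_le_O p hf), v_inv p]; exact hv
    refine (mem_fam p (inv_D p) hf).2 ⟨_, p.X_perp hx h1, ?_⟩
    rw [map_add, v_inv p]; rfl
  X_W := by
    rintro _ ⟨f, hf, rfl⟩ g hg v hv
    obtain ⟨x, hx, rfl⟩ := (mem_xfam p hf).1 hg
    obtain ⟨s, hs, rfl⟩ := (mem_fam p (inv_D p) hf).1 hv
    rw [mul_v p, mul_v p, inv_v p]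
    rcases p.X_D hx hs with h | h
    · left; rw [h]
    · right; rw [h, map_add]
  inj := by
    rintro _ ⟨f, hf, rfl⟩ g hg v hv hW
    obtain ⟨x, hx, rfl⟩ := (mem_xfam p hf).1 hg
    obtain ⟨s, hs, hse⟩ := (mem_fam p (inv_D p) hf).1 hW
    have h1 : p.lz.b p.va (f⁻¹ v) = 1 := by
      rw [← b_of_mem_O p.lz (H_le_O p hf), v_inv p]; exact hv
    have h2 : x (f⁻¹ v) + f⁻¹ v ∈ p.D := by
      have e : s = x (f⁻¹ v) + f⁻¹ v := by
        apply f.injective
        rw [hse, map_add, v_inv p]; rfl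
      rw [← e]; exact hs
    rw [eq_one_of_delta p hx h1 h2, mul_one, mul_inv_cancel]
  surj := by
    rintro _ ⟨f, hf, rfl⟩ v hv s hs
    have h1 : p.lz.b p.va (f⁻¹ v) = 1 := by
      rw [← b_of_mem_O p.lz (H_le_O p hf), v_inv p]; exact hv
    have h2 : p.lz.b p.va (f⁻¹ s) = 0 := by
      rw [← b_of_mem_O p.lz (H_le_O p hf), v_inv p]; exact hs
    obtain ⟨x, hx, hx'⟩ := exists_delta p h1 h2
    refine ⟨f * x * f⁻¹, (mem_xfam p hf).2 ⟨x, hx, rfl⟩, ?_⟩
    refine (mem_fam p (inv_D p) hf).2 ⟨_, hx', ?_⟩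
    rw [map_add, map_add, v_inv p, v_inv p]; rfl
  span := by
    intro v hv
    have hU : U p = ⊤ := by
      rcases hirr (U p) (fun c w hw => U_inv p ⟨c, rfl⟩ hw) with h | h
      · exfalso
        have h2 := va_mem_U p
        rw [h, Submodule.mem_bot] at h2
        exact p.va_ne h2
      · exact h
    apply p.lz.b_nondeg
    intro w
    have hw : w ∈ U p := by rw [hU]; trivial
    rw [p.lz.b_comm]
    exact perp_U p (fun f hf => hv _ ⟨f, hf, rfl⟩) w hw

/-- the hypothesis `hT` of THEOREM 2C -/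
theorem exists_not_XS [Finite G] (p : Pair Q z A a) (hA : ¬ AllSg p) :
    ∀ c ∈ orb p, ∃ x ∈ xfam p c, ¬ XS p.lz.b (xfam p) c x := by
  obtain ⟨x, hx, hxS⟩ : ∃ x ∈ p.X, ¬ ∀ v, p.lz.b p.va v = 0 → x v = v ∨ x v = v + p.va := by
    by_contra hcon
    push Not at hcon
    exact hA fun f hf => eq_sg p.lz (q_va p) p.va_ne (X_le_O p hf) (p.X_va hf) (hcon f hf)
  rintro _ ⟨f, hf, rfl⟩
  refine ⟨f * x * f⁻¹, (mem_xfam p hf).2 ⟨x, hx, rfl⟩, fun hXS => hxS fun v hv => ?_⟩
  have h1 : p.lz.b (f p.va) (f v) = 0 := by rw [b_of_mem_O p.lz (H_le_O p hf)]; exact hv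
  rcases hXS.2 _ h1 with h2 | h2
  · left
    rw [mul_v p, mul_v p, inv_v p] at h2
    exact f.injective h2
  · right
    rw [mul_v p, mul_v p, inv_v p, ← map_add] at h2
    exact f.injective h2

theorem xfam_va (p : Pair Q z A a) : xfam p p.va = p.X := by
  have h2 : (1 : p.lz.V ≃ₗ[ZMod 2] p.lz.V) p.va = p.va := rfl
  ext g
  have h1 := mem_xfam p p.H.one_mem (g := g)
  rw [h2] at h1
  rw [h1]
  constructor
  · rintro ⟨x, hx, rfl⟩
    rw [one_mul, inv_one, mul_one]; exact hx
  · intro hg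
    exact ⟨g, hg, by rw [one_mul, inv_one, mul_one]⟩

/-- `W^⊥ = W` from the conclusion of THEOREM 2C -/
theorem D_perp [Finite G] (p : Pair Q z A a) (hirr : IrrC p.lz)
    (hR : ∀ r, RR p.lz.q p.lz.b (xfam p) p.va r → r = 0 ∨ r = p.va) {v : p.lz.V}
    (hv : ∀ w ∈ p.D, p.lz.b v w = 0) : v ∈ p.D := by
  have F := tFam p hirr
  have hva := va_mem_orb p
  have h1 : NN p.lz.b (xfam p) p.va v := F.NN_orth hva fun w hw => by
    rw [fam_va p (inv_D p)] at hw
    exact hv w hw
  obtain ⟨r, hr, hvr⟩ := F.NN_eq hva h1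
  rw [fam_va p (inv_D p)] at hvr
  rcases hR r hr with h2 | h2
  · rw [h2, add_zero] at hvr; exact hvr
  · rw [h2] at hvr
    have := p.D.add_mem hvr p.va_mem_D
    rwa [add_assoc, p.lz.add_self, add_zero] at this

theorem card_D [Finite G] (p : Pair Q z A a) (hirr : IrrC p.lz)
    (hR : ∀ r, RR p.lz.q p.lz.b (xfam p) p.va r → r = 0 ∨ r = p.va) {w : ℕ}
    (hQ : Nat.card Q = 2 ^ (2 * w + 1)) : Nat.card p.D = 2 ^ w := by
  have hV : Nat.card p.lz.V = 2 ^ w * 2 ^ w := by
    have h1 := p.lz.card_eq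
    rw [hQ, pow_succ, mul_comm (2 ^ (2 * w))] at h1
    rw [← Nat.eq_of_mul_eq_mul_left (by norm_num) h1, ← pow_add, two_mul]
  have h1 := Cfsg.Agent.LargeExtra.Perp.card_perp p.lz p.D
  have h2 : p.lz.b.orthogonal p.D = p.D := by
    ext v
    rw [Cfsg.Agent.LargeExtra.Perp.mem_perp]
    constructor
    · intro hv
      exact D_perp p hirr hR fun w hw => by rw [p.lz.b_comm]; exact hv w hw
    · intro hv w hw
      exact p.b_D hw hv
  rw [h2, hV] at h1
  exact Nat.mul_self_inj.1 h1

/-- no Siegel elements -/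
theorem noSg [Finite G] (p : Pair Q z A a) (hirr : IrrC p.lz)
    (hR : ∀ r, RR p.lz.q p.lz.b (xfam p) p.va r → r = 0 ∨ r = p.va) : NoSg p := by
  have F := tFam p hirr
  have hva := va_mem_orb p
  obtain ⟨v, hv, -⟩ := exists_v p
  intro f hf hf1
  by_contra hcon
  push Not at hcon
  apply hf1
  have hXS : XS p.lz.b (xfam p) p.va f := by
    refine ⟨by rw [xfam_va]; exact hf, fun u hu => ?_⟩
    by_cases h0 : f u + u = 0
    · left; exact Lin.eq_of_add h0
    · right
      have h1 := hcon u hu h0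
      have : f u = u + (f u + u) := by v2
      rw [this, h1]
  have h1 := hR _ (F.RR_of_XS hva hXS hv)
  have h2 : f v + v ∈ p.D := by
    rcases h1 with h1 | h1 <;> rw [h1]
    · exact p.D.zero_mem
    · exact p.va_mem_D
  exact eq_one_of_delta p hf hv h2

end Cfsg.Agent.Omega.EH3.TCL

end

section


/-!
# RowS: groups generated by "Siegel groups" in a symplectic group over `F₂` (helper465)

`SpFam f H O X`: `(U, f)` symplectic over `F₂`, `H ≤ Sp(U)`, `O` an `H`-orbit spanning `U`, `X p ≤ H_p` (`p ∈ O`)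
equivariant, trivial on `p^⊥/p`, inducing all of `Hom(p^⊥/p, ⟨p⟩)` and containing no transvection.  If
`dim U ≥ 6` then there is an `H`-invariant quadratic form `q` with polar form `f`, `O` is the set of nonzero
singular vectors of `q` and `X p` is the full group of Siegel elements `sg q f p y`, `y ∈ p^⊥` (`main`).
-/

set_option autoImplicit false

namespace Cfsg.Agent.Omega.EH3.RowS

open Module Cfsg.Agent.LargeExtra.SiegFam Cfsg.Agent.LargeExtra.SiegFam.Lin
open Cfsg.Agent.Omega.EH3.TCL (mul_app inv_app app_inv one_app z2 z4 z6 z8 n2 n4 n6 n8)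

variable {U : Type*} [AddCommGroup U] [Module (ZMod 2) U]

/-- the element of `Sp(U)_p`, trivial on `p^⊥/p`, with data `y`, `γ` -/
def tx (f : LinearMap.BilinForm (ZMod 2) U) (p y : U) (γ : ZMod 2) (u : U) : U :=
  u + f y u • p + f p u • (y + γ • p)

/-- the abstract family -/
structure SpFam (f : LinearMap.BilinForm (ZMod 2) U) (H : Subgroup (U ≃ₗ[ZMod 2] U))
    (O : Set U) (X : U → Subgroup (U ≃ₗ[ZMod 2] U)) : Prop where
  alt : Alt f
  dim : 6 ≤ finrank (ZMod 2) U
  f_H : ∀ h ∈ H, ∀ u v, f (h u) (h v) = f u v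
  ne : O.Nonempty
  zero : ∀ p ∈ O, p ≠ 0
  stable : ∀ h ∈ H, ∀ p ∈ O, h p ∈ O
  trans : ∀ p ∈ O, ∀ p' ∈ O, ∃ h ∈ H, h p = p'
  X_le : ∀ p ∈ O, X p ≤ H
  X_map : ∀ h ∈ H, ∀ p ∈ O, ∀ x ∈ X p, h * x * h⁻¹ ∈ X (h p)
  X_fix : ∀ p ∈ O, ∀ x ∈ X p, x p = p
  X_perp : ∀ p ∈ O, ∀ x ∈ X p, ∀ u, f p u = 0 → x u = u ∨ x u = u + p
  X_tv : ∀ p ∈ O, ∀ x ∈ X p, (∀ u, f p u = 0 → x u = u) → x = 1
  X_surj : ∀ p ∈ O, ∀ y, f p y = 0 → ∃ x ∈ X p, ∀ u, f p u = 0 → x u = u + f y u • p
  span : ∀ v, (∀ p ∈ O, f p v = 0) → v = 0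

open Classical in
/-- the quadratic form at `p` -/
noncomputable def cc (f : LinearMap.BilinForm (ZMod 2) U) (X : U → Subgroup (U ≃ₗ[ZMod 2] U)) (p y : U) :
    ZMod 2 := if ∃ x ∈ X p, ∀ u, x u = tx f p y 1 u then 1 else 0

theorem eq_of_perp' {f : LinearMap.BilinForm (ZMod 2) U} (A : Alt f) {a d : U}
    (h : ∀ v, f a v = 0 → f d v = 0) : d = 0 ∨ d = a := by
  by_cases h0 : d = 0
  · exact Or.inl h0
  · right
    obtain ⟨v1, h1⟩ := A.exists_ne h0
    have h2 : f a v1 = 1 := zm_ne fun h2 => by rw [h v1 h2] at h1; exact zero_ne_one h1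
    apply eq_of_add
    apply A.nondeg
    intro v
    rw [map_add, LinearMap.add_apply]
    rcases zm (f a v) with h3 | h3
    · rw [h v h3, h3, add_zero]
    · have h4 : f a (v + v1) = 0 := by rw [map_add, h3, h2]; decide
      have h5 := h _ h4
      rw [map_add, h1] at h5
      rw [h3, h5]

/-- every functional is `f m` -/
theorem exists_rep {f : LinearMap.BilinForm (ZMod 2) U} (A : Alt f) (φ : U →ₗ[ZMod 2] ZMod 2) :
    ∃ m, ∀ v, φ v = f m v := by
  have := A.finDim
  have h1 : Function.Injective f := by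
    rw [injective_iff_map_eq_zero]
    intro v hv
    apply A.nondeg
    intro w
    rw [hv, LinearMap.zero_apply]
  have h2 : Function.Surjective f := by
    refine (LinearMap.injective_iff_surjective_of_finrank_eq_finrank ?_).1 h1
    exact (Subspace.dual_finrank_eq (K := ZMod 2) (V := U)).symm
  obtain ⟨m, hm⟩ := h2 φ
  exact ⟨m, fun v => by rw [hm]⟩

namespace SpFam

variable {f : LinearMap.BilinForm (ZMod 2) U} {H : Subgroup (U ≃ₗ[ZMod 2] U)} {O : Set U}
  {X : U → Subgroup (U ≃ₗ[ZMod 2] U)} {p y : U} {γ γ' : ZMod 2} {x : U ≃ₗ[ZMod 2] U}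

theorem comm (F : SpFam f H O X) (v w : U) : f v w = f w v := F.alt.comm v w

theorem self (F : SpFam f H O X) (v : U) : f v v = 0 := F.alt.self v

theorem tx_perp {u : U} (h : f p u = 0) : tx f p y γ u = u + f y u • p := by
  rw [tx, h, zero_smul, add_zero]

/-- the form of the elements of `X p` -/
theorem eq_tx (F : SpFam f H O X) (hp : p ∈ O) (hx : x ∈ X p) (hy : f p y = 0)
    (h : ∀ u, f p u = 0 → x u = u + f y u • p) : ∃ γ, ∀ u, x u = tx f p y γ u := by
  obtain ⟨e, he⟩ := F.alt.exists_ne (F.zero p hp)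
  have hxH := F.X_le p hp hx
  have key : x e + e + y = 0 ∨ x e + e + y = p := by
    apply eq_of_perp' F.alt
    intro u hu
    have h1 := F.f_H x hxH e u
    rw [h u hu, map_add, map_smul] at h1
    have h2 : f (x e) p = 1 := by
      have h3 := F.f_H x hxH p e
      rw [F.X_fix p hp x hx] at h3
      rw [F.comm, h3, he]
    rw [h2, smul_eq_mul, mul_one] at h1
    rw [map_add, map_add, LinearMap.add_apply, LinearMap.add_apply, ← h1]
    generalize f (x e) u = s, f y u = t
    revert s t; decide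
  have hg : ∃ γ : ZMod 2, x e = e + y + γ • p := by
    rcases key with h1 | h1
    · refine ⟨0, ?_⟩
      rw [zero_smul, add_zero]
      calc x e = (x e + e + y) + (e + y) := by v2
        _ = e + y := by rw [h1, zero_add]
    · refine ⟨1, ?_⟩
      rw [one_smul]
      calc x e = (x e + e + y) + (e + y) := by v2
        _ = e + y + p := by rw [h1]; abel
  obtain ⟨γ, hg⟩ := hg
  refine ⟨γ + f y e, fun u => ?_⟩
  rcases zm (f p u) with h1 | h1
  · rw [h u h1, tx_perp h1]
  · have h2 : f p (u + e) = 0 := by rw [map_add, h1, he]; decide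
    have h3 := h _ h2
    rw [map_add, hg] at h3
    rw [tx, h1, one_smul]
    have h4 : x u = (u + e + f y (u + e) • p) + (e + y + γ • p) := by rw [← h3]; v2
    rw [h4, map_add, add_smul, add_smul]; v2

theorem tx_mul (F : SpFam f H O X) {y' : U} (hy : f p y = 0) (hy' : f p y' = 0) (u : U) :
    tx f p y γ (tx f p y' γ' u) = tx f p (y + y') (γ + γ' + f y y') u := by
  have h1 : f p (tx f p y' γ' u) = f p u := by
    rw [tx, map_add, map_add, map_smul, map_smul, map_add, map_smul, F.self, hy']; simp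
  have h2 : f y (tx f p y' γ' u) = f y u + f p u * f y y' := by
    rw [tx, map_add, map_add, map_smul, map_smul, map_add, map_smul, F.comm y p, hy]
    simp only [smul_eq_mul, mul_zero, add_zero]
  rw [tx, h1, h2, tx, tx, map_add, LinearMap.add_apply]
  rcases zm (f p u) with h3 | h3 <;> rw [h3]
  · simp only [zero_smul, add_zero, zero_mul, add_smul]; v2
  · simp only [one_smul, one_mul, add_smul]; v2

theorem tx_self (F : SpFam f H O X) (p u : U) : tx f p p 0 u = u := by
  rw [tx, zero_smul, add_zero]; v2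

theorem tx_add_self (F : SpFam f H O X) (u : U) : tx f p (y + p) γ u = tx f p y γ u := by
  rw [tx, tx, map_add, LinearMap.add_apply, add_smul, smul_add, smul_add, smul_add]; v2

theorem map_tx (F : SpFam f H O X) {h : U ≃ₗ[ZMod 2] U} (hh : h ∈ H) (u : U) :
    h (tx f p y γ u) = tx f (h p) (h y) γ (h u) := by
  rw [tx, tx, map_add, map_add, map_smul, map_smul, map_add, map_smul, F.f_H h hh, F.f_H h hh]

/-- uniqueness of `γ` -/
theorem uniq (F : SpFam f H O X) (hp : p ∈ O) (hy : f p y = 0) {x' : U ≃ₗ[ZMod 2] U} (hx : x ∈ X p)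
    (hx' : x' ∈ X p) (h : ∀ u, x u = tx f p y γ u) (h' : ∀ u, x' u = tx f p y γ' u) : γ = γ' := by
  have h1 : ∀ u, (x * x') u = tx f p 0 (γ + γ') u := by
    intro u
    rw [mul_app, h, h', F.tx_mul hy hy, F.self, add_zero, add_self]
  have h2 := F.X_tv p hp _ ((X p).mul_mem hx hx') fun u hu => by
    rw [h1, tx_perp hu, map_zero, LinearMap.zero_apply, zero_smul, add_zero]
  obtain ⟨e, he⟩ := F.alt.exists_ne (F.zero p hp)
  have h3 := h1 e
  rw [h2, one_app, tx, he, map_zero, LinearMap.zero_apply, zero_smul, add_zero, one_smul, zero_add] at h3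
  have h4 : (γ + γ') • p = 0 := left_eq_add.1 h3
  rcases zm (γ + γ') with h5 | h5
  · exact CharTwo.add_eq_zero.1 h5
  · rw [h5, one_smul] at h4
    exact absurd h4 (F.zero p hp)

/-- the element of `X p` belonging to `y` -/
theorem exists_tx (F : SpFam f H O X) (hp : p ∈ O) (hy : f p y = 0) :
    ∃ x ∈ X p, ∀ u, x u = tx f p y (cc f X p y) u := by
  obtain ⟨x, hx, h1⟩ := F.X_surj p hp y hy
  obtain ⟨γ, h2⟩ := F.eq_tx hp hx hy h1
  rcases zm γ with h3 | h3
  · have h4 : cc f X p y = 0 := by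
      rw [cc, if_neg]
      rintro ⟨x', hx', h5⟩
      have h6 := F.uniq hp hy hx hx' h2 h5
      rw [h3] at h6
      exact zero_ne_one h6
    exact ⟨x, hx, by rw [h4, ← h3]; exact h2⟩
  · have h4 : cc f X p y = 1 := by
      rw [cc, if_pos]
      exact ⟨x, hx, by rw [← h3]; exact h2⟩
    exact ⟨x, hx, by rw [h4, ← h3]; exact h2⟩

theorem cc_eq (F : SpFam f H O X) (hp : p ∈ O) (hy : f p y = 0) (hx : x ∈ X p)
    (h : ∀ u, x u = tx f p y γ u) : cc f X p y = γ := by
  obtain ⟨x', hx', h'⟩ := F.exists_tx hp hy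
  exact F.uniq hp hy hx' hx h' h

theorem cc_add (F : SpFam f H O X) (hp : p ∈ O) {y' : U} (hy : f p y = 0) (hy' : f p y' = 0) :
    cc f X p (y + y') = cc f X p y + cc f X p y' + f y y' := by
  obtain ⟨x, hx, h⟩ := F.exists_tx hp hy
  obtain ⟨x', hx', h'⟩ := F.exists_tx hp hy'
  refine F.cc_eq hp (by rw [map_add, hy, hy', add_zero]) ((X p).mul_mem hx hx') fun u => ?_
  rw [mul_app, h, h', F.tx_mul hy hy']

theorem cc_self (F : SpFam f H O X) (hp : p ∈ O) : cc f X p p = 0 :=
  F.cc_eq hp (F.self p) (X p).one_mem fun u => by rw [F.tx_self]; rfl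

theorem cc_zero (F : SpFam f H O X) (hp : p ∈ O) : cc f X p 0 = 0 :=
  F.cc_eq hp (map_zero _) (X p).one_mem fun u => by
    simp [tx]

theorem cc_map (F : SpFam f H O X) {h : U ≃ₗ[ZMod 2] U} (hh : h ∈ H) (hp : p ∈ O) (hy : f p y = 0) :
    cc f X (h p) (h y) = cc f X p y := by
  obtain ⟨x, hx, h1⟩ := F.exists_tx hp hy
  refine F.cc_eq (F.stable h hh p hp) (by rw [F.f_H h hh]; exact hy) (F.X_map h hh p hp x hx) fun u => ?_
  rw [mul_app, mul_app, h1, F.map_tx hh, inv_app]

/-- orbits of `X p` off `p^⊥` -/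
theorem orbit (F : SpFam f H O X) (hp : p ∈ O) {e s : U} (he : f p e = 1) (hs : f p s = 0) :
    ∃ x ∈ X p, x e = e + s + (f s e + cc f X p s) • p := by
  obtain ⟨x, hx, h⟩ := F.exists_tx hp hs
  refine ⟨x, hx, ?_⟩
  rw [h, tx, he, one_smul, add_smul]; abel

end SpFam

end Cfsg.Agent.Omega.EH3.RowS

end

section


/-!
# RowS: the invariant quadratic form (helper465)
-/

set_option autoImplicit false

namespace Cfsg.Agent.Omega.EH3.RowS

open Module Cfsg.Agent.LargeExtra.SiegFam Cfsg.Agent.LargeExtra.SiegFam.Lin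
open Cfsg.Agent.Omega.EH3.TCL (mul_app inv_app app_inv one_app z2 z4 z6 z8 n2 n4 n6 n8)

variable {U : Type*} [AddCommGroup U] [Module (ZMod 2) U]

namespace SpFam

variable {f : LinearMap.BilinForm (ZMod 2) U} {H : Subgroup (U ≃ₗ[ZMod 2] U)} {O : Set U}
  {X : U → Subgroup (U ≃ₗ[ZMod 2] U)} {p y : U} {γ γ' : ZMod 2} {x : U ≃ₗ[ZMod 2] U}

theorem ladd' (v w u : U) : f (v + w) u = f v u + f w u := by
  rw [map_add, LinearMap.add_apply]

/-- a vector perpendicular to `S` and not to `s`, `S` a subspace, `s ∉ S` -/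
theorem exists_off (F : SpFam f H O X) {S : Submodule (ZMod 2) U} {s : U} (hs : s ∉ S) :
    ∃ v, (∀ t ∈ S, f t v = 0) ∧ f s v = 1 := by
  have := F.alt.finDim
  by_contra hcon
  push Not at hcon
  apply hs
  rw [← F.alt.orth_orth S, mem_orth]
  intro v hv
  rw [mem_orth] at hv
  rw [F.comm]
  rcases zm (f s v) with h1 | h1
  · exact h1
  · exact absurd h1 (hcon v hv)

theorem finrank_span_le (S : Finset U) : finrank (ZMod 2) (Submodule.span (ZMod 2) (S : Set U)) ≤ S.card :=
  finrank_span_finset_le_card S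

theorem exists_notMem (F : SpFam f H O X) {S : Submodule (ZMod 2) U} {n : ℕ} (hS : finrank (ZMod 2) S ≤ n)
    (T : Submodule (ZMod 2) U) (hT : n < finrank (ZMod 2) T) : ∃ v ∈ T, v ∉ S := by
  have := F.alt.finDim
  by_contra hcon
  push Not at hcon
  have h1 := Submodule.finrank_mono (show T ≤ S from fun v hv => hcon v hv)
  omega

/-- the span of two vectors -/
abbrev sp2 (u v : U) : Submodule (ZMod 2) U := Submodule.span (ZMod 2) ({u, v} : Set U)

theorem mem_sp2 {u v w : U} : w ∈ sp2 u v ↔ ∃ r s : ZMod 2, r • u + s • v = w :=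
  Submodule.mem_span_pair

theorem finrank_sp2 (u v : U) : finrank (ZMod 2) (sp2 u v) ≤ 2 := by
  classical
  have h1 := finrank_span_finset_le_card (R := ZMod 2) ({u, v} : Finset U)
  have h2 : ((({u, v} : Finset U) : Set U)) = {u, v} := by simp
  rw [h2] at h1
  exact h1.trans Finset.card_le_two

theorem finrank_sp2_orth (F : SpFam f H O X) (u v : U) :
    4 ≤ finrank (ZMod 2) (f.orthogonal (sp2 u v)) := by
  have h1 := F.alt.finrank_orth (sp2 u v)
  have h2 := finrank_sp2 u v
  have h3 := F.dim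
  omega

theorem mem_sp2_orth (F : SpFam f H O X) {u v w : U} :
    w ∈ f.orthogonal (sp2 u v) ↔ f u w = 0 ∧ f v w = 0 := by
  rw [mem_orth]
  constructor
  · intro h
    exact ⟨h u (Submodule.subset_span (by simp)), h v (Submodule.subset_span (by simp))⟩
  · rintro ⟨h1, h2⟩ s hs
    obtain ⟨r, t, rfl⟩ := mem_sp2.1 hs
    rw [ladd', map_smul, map_smul, LinearMap.smul_apply, LinearMap.smul_apply, h1, h2]; simp

/-! ### the second case -/

/-- all nonzero vectors are in `O` if `e, e + p ∈ O` -/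
theorem all_of (F : SpFam f H O X) {p e : U} (hp : p ∈ O) (he : f p e = 1) (h1 : e ∈ O)
    (h2 : e + p ∈ O) {v : U} (hv : v ≠ 0) : v ∈ O := by
  -- off `p^⊥`
  have key : ∀ v, f p v = 1 → v ∈ O := by
    intro v hv
    have hs : f p (v + e) = 0 := by rw [map_add, hv, he]; decide
    obtain ⟨x, hx, e1⟩ := F.orbit hp he hs
    have hxH := F.X_le p hp hx
    rcases zm (f (v + e) e + cc f X p (v + e)) with h3 | h3
    · have e2 : x e = v := by rw [e1, h3, zero_smul]; v2
      rw [← e2]; exact F.stable x hxH e h1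
    · have e2 : x (e + p) = v := by rw [map_add, e1, h3, F.X_fix p hp x hx, one_smul]; v2
      rw [← e2]; exact F.stable x hxH _ h2
  -- all points
  have key2 : ∀ q ∈ O, ∀ v, f q v = 1 → v ∈ O := by
    intro q hq v hv
    obtain ⟨h, hh, rfl⟩ := F.trans p hp q hq
    have h3 : f p (h⁻¹ v) = 1 := by rw [← F.f_H h hh, inv_app]; exact hv
    have h4 := F.stable h hh _ (key _ h3)
    rwa [inv_app] at h4
  by_contra hcon
  apply hv
  apply F.span
  intro q hq
  rcases zm (f q v) with h3 | h3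
  · exact h3
  · exact absurd (key2 q hq v h3) hcon

/-- if `O` consists of all nonzero vectors then a transvection is not in `H` -/
theorem no_tv (F : SpFam f H O X) (hO : ∀ v, v ≠ 0 → v ∈ O) {p : U} {h : U ≃ₗ[ZMod 2] U} (hp : p ≠ 0)
    (hh : h ∈ H) (he : ∀ w, h w = w + f p w • p) : False := by
  -- all transvections
  have key : ∀ v, v ≠ 0 → ∃ h ∈ H, ∀ w, h w = w + f v w • v := by
    intro v hv
    obtain ⟨g, hg, rfl⟩ := F.trans p (hO p hp) v (hO v hv)
    refine ⟨g * h * g⁻¹, H.mul_mem (H.mul_mem hg hh) (H.inv_mem hg), fun w => ?_⟩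
    rw [mul_app, mul_app, he, map_add, map_smul, inv_app, ← F.f_H g hg p, inv_app]
  -- `cc p v = 1` for `v ∈ p^⊥`, `v ∉ ⟨p⟩`
  have hpO := hO p hp
  have key2 : ∀ v, f p v = 0 → v ≠ 0 → v ≠ p → cc f X p v = 1 := by
    intro v hv h0 h1
    have hmem : v ∉ Submodule.span (ZMod 2) ({p} : Set U) := by
      rw [mem_span_one]
      rintro (h2 | h2)
      · exact h0 h2
      · exact h1 h2
    obtain ⟨y, hy, hvy⟩ := F.exists_off hmem
    have hpy : f p y = 0 := hy p (Submodule.mem_span_singleton_self p)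
    obtain ⟨g, hg, hge⟩ := key v h0
    have hgp : g p = p := by rw [hge, F.comm, hv, zero_smul, add_zero]
    have h2 := F.cc_map hg hpO hpy
    rw [hgp, hge, hvy, one_smul, F.cc_add hpO hpy hv, F.comm y v, hvy] at h2
    revert h2
    generalize cc f X p y = s, cc f X p v = t
    revert s t; decide
  -- `v, w ∈ p^⊥` independent, perpendicular
  obtain ⟨v, hv, hvn⟩ := F.exists_notMem (finrank_sp2 p p) (f.orthogonal (sp2 p p))
    (lt_of_lt_of_le (by norm_num) (F.finrank_sp2_orth p p))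
  obtain ⟨w, hw, hwn⟩ := F.exists_notMem (finrank_sp2 p v) (f.orthogonal (sp2 p v))
    (lt_of_lt_of_le (by norm_num) (F.finrank_sp2_orth p v))
  rw [F.mem_sp2_orth] at hv hw
  have nv0 : v ≠ 0 := fun h => hvn (by rw [h]; exact Submodule.zero_mem _)
  have nvp : v ≠ p := fun h => hvn (by rw [h]; exact Submodule.subset_span (by simp))
  have nw0 : w ≠ 0 := fun h => hwn (by rw [h]; exact Submodule.zero_mem _)
  have nwp : w ≠ p := fun h => hwn (by rw [h]; exact Submodule.subset_span (by simp))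
  have nwv : v + w ≠ 0 := fun h => hwn (by
    rw [← eq_of_add h]; exact Submodule.subset_span (by simp))
  have nwvp : v + w ≠ p := fun h => hwn (by
    have e : w = p + v := by rw [← h]; v2
    rw [e]
    exact Submodule.add_mem _ (Submodule.subset_span (by simp)) (Submodule.subset_span (by simp)))
  have h1 := F.cc_add hpO hv.1 hw.1
  rw [key2 v hv.1 nv0 nvp, key2 w hw.1 nw0 nwp, hw.2,
    key2 (v + w) (by rw [map_add, hv.1, hw.1, add_zero]) nwv nwvp] at h1
  exact absurd h1 (by decide)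

/-- (2a) the symmetry -/
theorem cc_symm (F : SpFam f H O X) (hO : ∀ v, v ≠ 0 → v ∈ O) {u v : U} (hu : u ≠ 0) (hv : v ≠ 0)
    (huv : f u v = 0) : cc f X u v = cc f X v u := by
  have hvu : f v u = 0 := by rw [F.comm]; exact huv
  obtain ⟨x, hx, h1⟩ := F.exists_tx (hO u hu) huv
  obtain ⟨x', hx', h2⟩ := F.exists_tx (hO v hv) hvu
  have hH : x * x' ∈ H := H.mul_mem (F.X_le u (hO u hu) hx) (F.X_le v (hO v hv) hx')
  have key : ∀ w, (x * x') w = w + (cc f X v u * f v w) • v + (cc f X u v * f u w) • u := by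
    intro w
    rw [mul_app, h2]
    have e1 : f v (tx f v u (cc f X v u) w) = f v w := by
      rw [tx, map_add, map_add, map_smul, map_smul, map_add, map_smul, F.self, hvu]; simp
    have e2 : f u (tx f v u (cc f X v u) w) = f u w := by
      rw [tx, map_add, map_add, map_smul, map_smul, map_add, map_smul, F.self, huv]; simp
    rw [h1, tx, e1, e2, tx]
    rcases zm (f v w) with h3 | h3 <;> rcases zm (f u w) with h4 | h4 <;> rw [h3, h4] <;>
      simp only [zero_smul, one_smul, mul_zero, mul_one, add_zero] <;> v2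
  rcases zm (cc f X u v) with h3 | h3 <;> rcases zm (cc f X v u) with h4 | h4 <;> rw [h3, h4]
  · exfalso
    refine F.no_tv hO hv hH fun w => ?_
    rw [key, h3, h4, zero_mul, zero_smul, add_zero, one_mul]
  · exfalso
    refine F.no_tv hO hu hH fun w => ?_
    rw [key, h3, h4, zero_mul, zero_smul, add_zero, one_mul]

/-- the second case is impossible -/
theorem case_two (F : SpFam f H O X) (hO : ∀ v, v ≠ 0 → v ∈ O) : False := by
  obtain ⟨u, hu⟩ := F.ne
  have hu0 := F.zero u hu
  obtain ⟨v, hv, hvn⟩ := F.exists_notMem (finrank_sp2 u u) (f.orthogonal (sp2 u u))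
    (lt_of_lt_of_le (by norm_num) (F.finrank_sp2_orth u u))
  obtain ⟨s, hs, hsn⟩ := F.exists_notMem (finrank_sp2 u v) (f.orthogonal (sp2 u v))
    (lt_of_lt_of_le (by norm_num) (F.finrank_sp2_orth u v))
  obtain ⟨t, ht, hst⟩ := F.exists_off hsn
  rw [F.mem_sp2_orth] at hv hs
  have htu : f u t = 0 := ht u (Submodule.subset_span (by simp))
  have htv : f v t = 0 := ht v (Submodule.subset_span (by simp))
  have nv0 : v ≠ 0 := fun h => hvn (by rw [h]; exact Submodule.zero_mem _)
  have nvu : v ≠ u := fun h => hvn (by rw [h]; exact Submodule.subset_span (by simp))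
  have nuv : u + v ≠ 0 := fun h => nvu (eq_of_add h).symm
  have huv : f u v = 0 := hv.1
  have key : ∀ r, f u r = 0 → f v r = 0 → r ≠ 0 →
      cc f X u r + cc f X v r + cc f X (u + v) r = 0 := by
    intro r h1 h2 h3
    have hru : f r u = 0 := by rw [F.comm]; exact h1
    have hrv : f r v = 0 := by rw [F.comm]; exact h2
    rw [F.cc_symm hO hu0 h3 h1, F.cc_symm hO nv0 h3 h2,
      F.cc_symm hO nuv h3 (by rw [ladd', h1, h2, add_zero]), F.cc_add (hO r h3) hru hrv, huv]
    generalize cc f X r u = α, cc f X r v = β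
    revert α β; decide
  have hs0 : s ≠ 0 := fun h => hsn (by rw [h]; exact Submodule.zero_mem _)
  have ht0 : t ≠ 0 := by
    rintro rfl
    rw [map_zero] at hst
    exact zero_ne_one hst
  have hst0 : s + t ≠ 0 := by
    intro h
    rw [eq_of_add h, F.self] at hst
    exact zero_ne_one hst
  have k1 := key s hs.1 hs.2 hs0
  have k2 := key t htu htv ht0
  have k3 := key (s + t) (by rw [map_add, hs.1, htu, add_zero]) (by rw [map_add, hs.2, htv, add_zero]) hst0
  rw [F.cc_add (hO u hu0) hs.1 htu, F.cc_add (hO v nv0) hs.2 htv,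
    F.cc_add (hO _ nuv) (by rw [ladd', hs.1, hs.2, add_zero]) (by rw [ladd', htu, htv, add_zero]), hst] at k3
  revert k1 k2 k3
  generalize cc f X u s = c1, cc f X v s = c2, cc f X (u + v) s = c3, cc f X u t = c4, cc f X v t = c5,
    cc f X (u + v) t = c6
  revert c1 c2 c3 c4 c5 c6; decide

/-! ### the first case -/

/-- the quadratic form of a pair -/
noncomputable def qf (f : LinearMap.BilinForm (ZMod 2) U) (X : U → Subgroup (U ≃ₗ[ZMod 2] U)) (a e w : U) :
    ZMod 2 := f a w * f e w + cc f X a (w + f a w • e)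

theorem not_both (F : SpFam f H O X) {p e : U} (hp : p ∈ O) (he : f p e = 1) (h1 : e ∈ O) :
    e + p ∉ O := fun h2 => F.case_two fun _ hv => F.all_of hp he h1 h2 hv

theorem qf_add (F : SpFam f H O X) {a e : U} (ha : a ∈ O) (hae : f a e = 1) (v w : U) :
    qf f X a e (v + w) = qf f X a e v + qf f X a e w + f v w := by
  have hea : f e a = 1 := by rw [F.comm]; exact hae
  have h1 : ∀ v, f a (v + f a v • e) = 0 := by
    intro v
    rw [map_add, map_smul, hae, smul_eq_mul, mul_one, zadd]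
  have e1 : v + w + f a (v + w) • e = (v + f a v • e) + (w + f a w • e) := by
    rw [map_add, add_smul]; abel
  rw [qf, qf, qf, e1, F.cc_add ha (h1 v) (h1 w)]
  simp only [map_add, map_smul, LinearMap.add_apply, LinearMap.smul_apply, smul_eq_mul]
  rw [F.self e, F.comm v e]
  generalize cc f X a (v + f a v • e) = s, cc f X a (w + f a w • e) = t
  generalize f a v = α, f a w = β, f e v = γ, f e w = δ, f v w = ε
  revert α β γ δ ε s t; decide

theorem qf_a (F : SpFam f H O X) {a e : U} (ha : a ∈ O) : qf f X a e a = 0 := by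
  rw [qf, F.self, zero_mul, zero_smul, add_zero, F.cc_self ha, zero_add]

theorem qf_e (F : SpFam f H O X) {a e : U} (ha : a ∈ O) (hae : f a e = 1) : qf f X a e e = 0 := by
  rw [qf, F.self, mul_zero, hae, one_smul, add_self, F.cc_zero ha, zero_add]

theorem qf_perp {a e w : U} (h : f a w = 0) : qf f X a e w = cc f X a w := by
  rw [qf, h, zero_mul, zero_smul, add_zero, zero_add]

/-- off `a^⊥` the points are the singular vectors -/
theorem mem_off (F : SpFam f H O X) {a e w : U} (ha : a ∈ O) (he : e ∈ O) (hae : f a e = 1)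
    (hw : f a w = 1) : w ∈ O ↔ qf f X a e w = 0 := by
  have hs : f a (w + e) = 0 := by rw [map_add, hw, hae]; decide
  obtain ⟨x, hx, h1⟩ := F.orbit ha hae hs
  have hxH := F.X_le a ha hx
  have e1 : qf f X a e w = f (w + e) e + cc f X a (w + e) := by
    rw [qf, hw, one_mul, one_smul, ladd', F.self, add_zero, F.comm]
  have hxe := F.stable x hxH e he
  rw [e1]
  rcases zm (f (w + e) e + cc f X a (w + e)) with h2 | h2 <;> rw [h2] <;> rw [h2] at h1
  · have e2 : x e = w := by rw [h1, zero_smul]; v2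
    rw [e2] at hxe
    exact ⟨fun _ => rfl, fun _ => hxe⟩
  · have e2 : x e = w + a := by rw [h1, one_smul]; v2
    rw [e2] at hxe
    constructor
    · intro h3
      exfalso
      exact F.not_both ha hw h3 hxe
    · intro h3
      exact absurd h3 (by decide)

theorem cc_add_self (F : SpFam f H O X) (hp : p ∈ O) (hy : f p y = 0) :
    cc f X p (y + p) = cc f X p y := by
  rw [F.cc_add hp hy (F.self p), F.cc_self hp, F.comm, hy, add_zero, add_zero]

/-- the two forms agree -/
theorem cc_pair (F : SpFam f H O X) {a e y : U} (ha : a ∈ O) (he : e ∈ O) (hae : f a e = 1)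
    (h1 : f a y = 0) (h2 : f e y = 0) : cc f X a y = cc f X e y := by
  have hea : f e a = 1 := by rw [F.comm]; exact hae
  have k1 := F.mem_off (w := a + e + y) ha he hae (by rw [map_add, map_add, F.self, hae, h1]; decide)
  have k2 := F.mem_off (w := a + e + y) he ha hea (by rw [map_add, map_add, F.self, hea, h2]; decide)
  have c1 : qf f X a e (a + e + y) = 1 + cc f X a y := by
    rw [F.qf_add ha hae, F.qf_add ha hae, F.qf_a ha, F.qf_e ha hae, hae, qf_perp h1, ladd', h1, h2]
    generalize cc f X a y = s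
    revert s; decide
  have c2 : qf f X e a (a + e + y) = 1 + cc f X e y := by
    rw [F.qf_add he hea, F.qf_add he hea, F.qf_a he, F.qf_e he hea, hae, qf_perp h2, ladd', h1, h2]
    generalize cc f X e y = s
    revert s; decide
  rw [c1] at k1
  rw [c2] at k2
  have k3 := k1.symm.trans k2
  revert k3
  generalize cc f X a y = s, cc f X e y = t
  revert s t; decide

theorem qf_symm (F : SpFam f H O X) {a e : U} (ha : a ∈ O) (he : e ∈ O) (hae : f a e = 1) (w : U) :
    qf f X a e w = qf f X e a w := by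
  have hea : f e a = 1 := by rw [F.comm]; exact hae
  have h1 : f a (w + f a w • e + f e w • a) = 0 := by
    rw [map_add, map_add, map_smul, map_smul, hae, F.self]; simp [zadd]
  have h2 : f e (w + f a w • e + f e w • a) = 0 := by
    rw [map_add, map_add, map_smul, map_smul, hea, F.self]; simp [zadd]
  have h3 := F.cc_pair ha he hae h1 h2
  have h4 : cc f X a (w + f a w • e + f e w • a) = cc f X a (w + f a w • e) := by
    rcases zm (f e w) with h5 | h5 <;> rw [h5]
    · rw [zero_smul, add_zero]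
    · rw [one_smul]
      apply F.cc_add_self ha
      rw [map_add, map_smul, hae, smul_eq_mul, mul_one, zadd]
  have h5 : cc f X e (w + f a w • e + f e w • a) = cc f X e (w + f e w • a) := by
    rcases zm (f a w) with h6 | h6 <;> rw [h6]
    · rw [zero_smul, add_zero]
    · rw [one_smul]
      have e1 : w + e + f e w • a = (w + f e w • a) + e := by abel
      rw [e1]
      apply F.cc_add_self he
      rw [map_add, map_smul, hea, smul_eq_mul, mul_one, zadd]
  rw [qf, qf, ← h4, ← h5, h3, mul_comm]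

/-- the points are the nonzero singular vectors -/
theorem mem_iff (F : SpFam f H O X) {a e : U} (ha : a ∈ O) (he : e ∈ O) (hae : f a e = 1) {w : U}
    (hw : w ≠ 0) : w ∈ O ↔ qf f X a e w = 0 := by
  have hea : f e a = 1 := by rw [F.comm]; exact hae
  rcases zm (f a w) with h1 | h1
  · rcases zm (f e w) with h2 | h2
    · have hmem : w ∉ Submodule.span (ZMod 2) ({a} : Set U) := by
        rw [mem_span_one]
        rintro (h3 | h3)
        · exact hw h3
        · rw [h3, hea] at h2; exact one_ne_zero h2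
      obtain ⟨y, hy, hwy⟩ := F.exists_off hmem
      have hay : f a y = 0 := hy a (Submodule.mem_span_singleton_self a)
      obtain ⟨x, hx, hx'⟩ := F.X_surj a ha y hay
      have hxH := F.X_le a ha hx
      have e1 : x w = w + a := by rw [hx' w h1, F.comm y w, hwy, one_smul]
      have h3 : w ∈ O ↔ w + a ∈ O := by
        constructor
        · intro h4
          rw [← e1]; exact F.stable x hxH w h4
        · intro h4
          have h5 := F.stable x⁻¹ (H.inv_mem hxH) _ h4
          rwa [← e1, app_inv] at h5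
      rw [h3, F.qf_symm ha he hae, F.mem_off he ha hea (by rw [map_add, h2, hea, zero_add]),
        F.qf_add he hea, F.qf_e he hea, F.comm w a, h1, add_zero, add_zero]
    · rw [F.qf_symm ha he hae]; exact F.mem_off he ha hea h2
  · exact F.mem_off ha he hae h1

/-- **the invariant quadratic form** -/
theorem main (F : SpFam f H O X) :
    ∃ q : U → ZMod 2, (∀ v w, q (v + w) = q v + q w + f v w) ∧ (∀ h ∈ H, ∀ v, q (h v) = q v) ∧
      (∀ v, v ∈ O ↔ v ≠ 0 ∧ q v = 0) ∧
      (∀ p ∈ O, ∀ y, f p y = 0 → ∃ x ∈ X p, ∀ u, x u = sg q f p y u) ∧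
      ∀ p ∈ O, ∀ x ∈ X p, ∃ y, f p y = 0 ∧ ∀ u, x u = sg q f p y u := by
  obtain ⟨a, ha⟩ := F.ne
  obtain ⟨e, he, hea⟩ : ∃ e ∈ O, f e a = 1 := by
    by_contra hcon
    push Not at hcon
    apply F.zero a ha
    apply F.span
    intro c hc
    rcases zm (f c a) with h1 | h1
    · exact h1
    · exact absurd h1 (hcon c hc)
  have hae : f a e = 1 := by rw [F.comm]; exact hea
  have hadd := F.qf_add ha hae
  have h0 : qf f X a e 0 = 0 := by
    rw [qf, map_zero, zero_mul, zero_smul, add_zero, F.cc_zero ha, zero_add]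
  have hO : ∀ v, v ∈ O ↔ v ≠ 0 ∧ qf f X a e v = 0 := by
    intro v
    constructor
    · intro hv
      exact ⟨F.zero v hv, (F.mem_iff ha he hae (F.zero v hv)).1 hv⟩
    · rintro ⟨h1, h2⟩
      exact (F.mem_iff ha he hae h1).2 h2
  -- invariance
  have hinv : ∀ h ∈ H, ∀ v, qf f X a e (h v) = qf f X a e v := by
    intro h hh
    let φ : U →ₗ[ZMod 2] ZMod 2 := AddMonoidHom.toZModLinearMap 2
      { toFun := fun v => qf f X a e (h v) + qf f X a e v
        map_zero' := by rw [map_zero, h0, add_zero]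
        map_add' := by
          intro v w
          rw [map_add, hadd, hadd, F.f_H h hh]
          generalize qf f X a e (h v) = s, qf f X a e (h w) = t, qf f X a e v = r, qf f X a e w = k,
            f v w = l
          revert s t r k l; decide }
    obtain ⟨m, hm⟩ := exists_rep F.alt φ
    have hm0 : m = 0 := by
      apply F.span
      intro p hp
      rw [F.comm, ← hm]
      show qf f X a e (h p) + qf f X a e p = 0
      rw [((hO p).1 hp).2, ((hO (h p)).1 (F.stable h hh p hp)).2, add_zero]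
    intro v
    have h1 : qf f X a e (h v) + qf f X a e v = 0 := by
      have := hm v
      rw [hm0, map_zero, LinearMap.zero_apply] at this
      exact this
    exact CharTwo.add_eq_zero.1 h1
  -- Siegel elements
  have hcc : ∀ p ∈ O, ∀ y, f p y = 0 → cc f X p y = qf f X a e y := by
    intro p hp y hy
    obtain ⟨x, hx, h1⟩ := F.exists_tx hp hy
    obtain ⟨w, hw⟩ := F.alt.exists_ne (F.zero p hp)
    have h2 := hinv x (F.X_le p hp hx) w
    rw [h1, tx, hw, one_smul, hadd, hadd, hadd] at h2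
    have hq : ∀ t : ZMod 2, qf f X a e (t • p) = 0 := by
      intro t
      rcases zm t with rfl | rfl
      · rw [zero_smul]; exact h0
      · rw [one_smul]; exact ((hO p).1 hp).2
    have hwp : f w p = 1 := by rw [F.comm]; exact hw
    have hyp : f y p = 0 := by rw [F.comm]; exact hy
    rw [hq, hq] at h2
    simp only [map_add, map_smul, LinearMap.add_apply, LinearMap.smul_apply, smul_eq_mul, hwp, hyp, hy,
      F.self p, F.comm w y] at h2
    revert h2
    generalize qf f X a e w = s, f y w = t, qf f X a e y = r, cc f X p y = k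
    revert s t r k; decide
  have hsg : ∀ p ∈ O, ∀ y, f p y = 0 → ∀ u, tx f p y (cc f X p y) u = sg (qf f X a e) f p y u := by
    intro p hp y hy u
    rw [hcc p hp y hy, tx, sg, smul_add, smul_smul, mul_comm (f p u)]; abel
  refine ⟨qf f X a e, hadd, hinv, hO, fun p hp y hy => ?_, fun p hp x hx => ?_⟩
  · obtain ⟨x, hx, h1⟩ := F.exists_tx hp hy
    exact ⟨x, hx, fun u => by rw [h1, hsg p hp y hy]⟩
  · -- the functional of `x`
    obtain ⟨w, hw⟩ := F.alt.exists_ne (F.zero p hp)
    have hxH := F.X_le p hp hx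
    have hpy : f p (x w + w) = 0 := by
      have h1 := F.f_H x hxH p w
      rw [F.X_fix p hp x hx] at h1
      rw [map_add, h1, zadd]
    refine ⟨x w + w, hpy, ?_⟩
    have h1 : ∀ u, f p u = 0 → x u = u + f (x w + w) u • p := by
      intro u hu
      have h2 := F.f_H x hxH w u
      have h3 : f (x w) p = 1 := by
        have h4 := F.f_H x hxH p w
        rw [F.X_fix p hp x hx] at h4
        rw [F.comm, h4, hw]
      rw [ladd', ← h2]
      rcases F.X_perp p hp x hx u hu with h4 | h4 <;> rw [h4]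
      · rw [zadd, zero_smul, add_zero]
      · rw [map_add, h3]
        have : f (x w) u + (f (x w) u + 1) = 1 := by
          generalize f (x w) u = s
          revert s; decide
        rw [this, one_smul]
    obtain ⟨γ, h2⟩ := F.eq_tx hp hx hpy h1
    intro u
    rw [h2, ← hsg p hp _ hpy, F.cc_eq hp hpy hx h2]

end SpFam

end Cfsg.Agent.Omega.EH3.RowS

end
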